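import Groth.Agent.H4Segre.Diag
import Groth.Agent.H4Gr.CoreHeight
import Mathlib.RingTheory.GradedAlgebra.Radical
import Mathlib.RingTheory.Jacobson.Artinian
import Mathlib.RingTheory.KrullDimension.Polynomial

/-!
# Homogeneous systems of parameters of a common degree
-/

set_option autoImplicit false
set_option linter.style.haveILetI false
set_option linter.unusedSectionVars false

universe u

open DirectSum

namespace Groth.Agent.H4Segre

variable {k : Type u} [Field k] {R : Type u} [CommRing R] [Algebra k R] (𝒜 : ℤ → Submodule k R) [GradedAlgebra 𝒜]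

/-- The irrelevant ideal. -/
def irr : Ideal R := Ideal.span (⋃ n ∈ Set.Ioi (0 : ℤ), (𝒜 n : Set R))

theorem mem_irr_of_pos {n : ℤ} (hn : 0 < n) {x : R} (hx : x ∈ 𝒜 n) : x ∈ irr 𝒜 :=
  Ideal.subset_span (Set.mem_iUnion₂.2 ⟨n, hn, hx⟩)

theorem isHomogeneous_irr : (irr 𝒜).IsHomogeneous 𝒜 :=
  Ideal.homogeneous_span _ _ fun x hx => by
    obtain ⟨n, -, hn⟩ := Set.mem_iUnion₂.1 hx
    exact ⟨n, hn⟩

variable (hpos : ∀ n : ℤ, n < 0 → 𝒜 n = ⊥) (h0 : 𝒜 0 = Submodule.span k {(1 : R)})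

include hpos in
theorem eq_zero_or_nonneg {n : ℤ} {x : R} (hx : x ∈ 𝒜 n) : x = 0 ∨ 0 ≤ n := by
  rcases lt_or_ge n 0 with h | h
  · exact .inl (by simpa [hpos n h] using hx)
  · exact .inr h

include hpos in
theorem mem_irr_iff {x : R} : x ∈ irr 𝒜 ↔ (decompose 𝒜 x 0 : R) = 0 := by
  classical
  constructor
  · intro hx
    suffices h : ∀ r : R, (decompose 𝒜 (r * x) 0 : R) = 0 by simpa using h 1
    induction hx using Submodule.span_induction with
    | mem x hx =>
      obtain ⟨n, hn, hxn⟩ := Set.mem_iUnion₂.1 hx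
      intro r
      induction r using DirectSum.Decomposition.inductionOn 𝒜 with
      | zero => simp
      | @homogeneous i r =>
        rcases eq_zero_or_nonneg 𝒜 hpos r.2 with h | h
        · simp [h]
        · exact DirectSum.decompose_of_mem_ne 𝒜 (SetLike.mul_mem_graded r.2 hxn)
            (by have : 0 < n := hn; omega)
      | add a b ha hb => rw [add_mul, decompose_add, DirectSum.add_apply, Submodule.coe_add, ha, hb, add_zero]
    | zero => simp
    | add a b _ _ ha hb => intro r; rw [mul_add, decompose_add, DirectSum.add_apply, Submodule.coe_add, ha r, hb r, add_zero]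
    | smul c a _ ha => intro r; rw [smul_eq_mul, ← mul_assoc]; exact ha _
  · intro h
    rw [← DirectSum.sum_support_decompose 𝒜 x]
    refine sum_mem fun i _ => ?_
    rcases lt_trichotomy i 0 with hi | rfl | hi
    · rcases eq_zero_or_nonneg 𝒜 hpos (decompose 𝒜 x i).2 with h' | h'
      · rw [h']; exact zero_mem _
      · omega
    · rw [h]; exact zero_mem _
    · exact mem_irr_of_pos 𝒜 hi (decompose 𝒜 x i).2

include hpos h0 in
theorem isMaximal_irr [Nontrivial R] : (irr 𝒜).IsMaximal := by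
  refine Ideal.isMaximal_iff.2 ⟨fun h => ?_, fun J x hJ hx hxJ => ?_⟩
  · rw [mem_irr_iff 𝒜 hpos, DirectSum.decompose_of_mem_same 𝒜 (SetLike.one_mem_graded 𝒜)] at h
    exact one_ne_zero h
  · have hz : (decompose 𝒜 x 0 : R) ∈ 𝒜 0 := (decompose 𝒜 x 0).2
    obtain ⟨c, hc⟩ := Submodule.mem_span_singleton.1 (h0.le hz)
    have hc0 : c ≠ 0 := by
      rintro rfl
      exact hx ((mem_irr_iff 𝒜 hpos).2 (by rw [← hc, zero_smul]))
    have h1 : x - c • 1 ∈ irr 𝒜 := by
      rw [mem_irr_iff 𝒜 hpos, decompose_sub]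
      rw [show c • (1 : R) = (decompose 𝒜 x 0 : R) from hc]
      simp
    have h2 : c • (1 : R) ∈ J := by simpa using sub_mem hxJ (hJ h1)
    have := J.mul_mem_left (algebraMap k R c⁻¹) h2
    rwa [← Algebra.smul_def, smul_smul, inv_mul_cancel₀ hc0, one_smul] at this

include hpos h0 in
theorem le_irr_of_isHomogeneous {J : Ideal R} (hJ : J.IsHomogeneous 𝒜) (hJt : J ≠ ⊤) : J ≤ irr 𝒜 := by
  intro x hx
  rw [mem_irr_iff 𝒜 hpos]
  by_contra hne
  have hz : (decompose 𝒜 x 0 : R) ∈ 𝒜 0 := (decompose 𝒜 x 0).2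
  obtain ⟨c, hc⟩ := Submodule.mem_span_singleton.1 (h0.le hz)
  have hc0 : c ≠ 0 := fun h => hne (by rw [← hc, h, zero_smul])
  refine hJt ((Ideal.eq_top_iff_one J).2 ?_)
  have := J.mul_mem_left (algebraMap k R c⁻¹) (hJ 0 hx)
  rwa [← hc, ← Algebra.smul_def, smul_smul, inv_mul_cancel₀ hc0, one_smul] at this

theorem isHomogeneous_of_minimalPrimes {J P : Ideal R} (hJ : J.IsHomogeneous 𝒜) (hP : P ∈ J.minimalPrimes) :
    P.IsHomogeneous 𝒜 := by
  have h1 : (P.homogeneousCore 𝒜).toIdeal = P := by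
    refine le_antisymm (Ideal.toIdeal_homogeneousCore_le 𝒜 P) (hP.2 ⟨hP.1.1.homogeneousCore, ?_⟩
      (Ideal.toIdeal_homogeneousCore_le 𝒜 P))
    exact hJ.toIdeal_homogeneousCore_eq_self.symm.le.trans (Ideal.homogeneousCore_mono 𝒜 hP.1.2)
  exact h1 ▸ (P.homogeneousCore 𝒜).isHomogeneous

include hpos in
theorem exists_avoid (S : Finset (Ideal R)) (hS : ∀ P ∈ S, P.IsPrime ∧ P.IsHomogeneous 𝒜 ∧ ¬ irr 𝒜 ≤ P)
    (hinc : ∀ P ∈ S, ∀ Q ∈ S, P ≤ Q → P = Q) :
    ∃ d : ℕ, 0 < d ∧ ∃ f ∈ 𝒜 (d : ℤ), ∀ P ∈ S, f ∉ P := by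
  classical
  induction S using Finset.induction with
  | empty => exact ⟨1, one_pos, 0, zero_mem _, by simp⟩
  | @insert P S hPS ih =>
    obtain ⟨a, ha, f, hf, hfS⟩ := ih (fun Q hQ => hS Q (Finset.mem_insert_of_mem hQ))
      (fun Q hQ Q' hQ' => hinc Q (Finset.mem_insert_of_mem hQ) Q' (Finset.mem_insert_of_mem hQ'))
    obtain ⟨hPp, hPh, hPi⟩ := hS P (Finset.mem_insert_self _ _)
    by_cases hfP : f ∈ P
    swap
    · exact ⟨a, ha, f, hf, Finset.forall_mem_insert .. |>.2 ⟨hfP, hfS⟩⟩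
    have hg : ∀ S' ⊆ S, ∃ b : ℕ, 0 < b ∧ ∃ g ∈ 𝒜 (b : ℤ), g ∉ P ∧ ∀ Q ∈ S', g ∈ Q := by
      intro S'
      induction S' using Finset.induction with
      | empty =>
        intro _
        obtain ⟨e, he, heP⟩ := Set.not_subset.1 (fun h => hPi (Ideal.span_le.2 h))
        obtain ⟨n, hn, hen⟩ := Set.mem_iUnion₂.1 he
        refine ⟨n.toNat, by have : 0 < n := hn; omega, e, ?_, heP, by simp⟩
        rw [Int.toNat_of_nonneg (le_of_lt hn)]
        exact hen
      | @insert Q S' hQS' ih' =>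
        intro hsub
        rw [Finset.insert_subset_iff] at hsub
        obtain ⟨b, hb, g, hgb, hgP, hgS⟩ := ih' hsub.2
        obtain ⟨hQp, hQh, -⟩ := hS Q (Finset.mem_insert_of_mem hsub.1)
        have hQP : ¬ Q ≤ P := fun h => hPS ((hinc Q (Finset.mem_insert_of_mem hsub.1) P
          (Finset.mem_insert_self _ _) h) ▸ hsub.1)
        obtain ⟨x, hxQ, hxP⟩ := SetLike.not_le_iff_exists.1 hQP
        obtain ⟨i, hi⟩ : ∃ i, (decompose 𝒜 x i : R) ∉ P := by
          by_contra hall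
          push Not at hall
          exact hxP (by rw [← DirectSum.sum_support_decompose 𝒜 x]; exact sum_mem fun i _ => hall i)
        rcases eq_zero_or_nonneg 𝒜 hpos (decompose 𝒜 x i).2 with h | h
        · exact absurd (h ▸ P.zero_mem) hi
        refine ⟨i.toNat + b, by omega, (decompose 𝒜 x i : R) * g, ?_,
          fun hm => (hPp.mem_or_mem hm).elim hi hgP,
          Finset.forall_mem_insert .. |>.2 ⟨Q.mul_mem_right _ (hQh i hxQ), fun Q' hQ' => Q'.mul_mem_left _ (hgS Q' hQ')⟩⟩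
        rw [Nat.cast_add, Int.toNat_of_nonneg h]
        exact SetLike.mul_mem_graded (decompose 𝒜 x i).2 hgb
    obtain ⟨b, hb, g, hgb, hgP, hgS⟩ := hg S (Finset.Subset.refl _)
    refine ⟨b * a, Nat.mul_pos hb ha, f ^ b + g ^ a, add_mem ?_ ?_, Finset.forall_mem_insert .. |>.2 ⟨fun h => ?_, fun Q hQ h => ?_⟩⟩
    · have := SetLike.pow_mem_graded b hf
      rwa [nsmul_eq_mul, ← Nat.cast_mul] at this
    · have := SetLike.pow_mem_graded a hgb
      rwa [nsmul_eq_mul, ← Nat.cast_mul, mul_comm] at this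
    · exact hgP (hPp.mem_of_pow_mem a ((Ideal.add_mem_iff_right P (Ideal.pow_mem_of_mem P hfP b hb)).1 h))
    · obtain ⟨hQp, -, -⟩ := hS Q (Finset.mem_insert_of_mem hQ)
      exact hfS Q hQ (hQp.mem_of_pow_mem b
        ((Ideal.add_mem_iff_left Q (Ideal.pow_mem_of_mem Q (hgS Q hQ) a ha)).1 h))

theorem hgt_mono {J P m : Ideal R} [m.IsPrime] (hJP : J ≤ P) (hPm : P ≤ m) : H4Gr.hgt P m ≤ H4Gr.hgt J m := by
  rw [H4Gr.hgt_eq_orderHeight hPm, H4Gr.hgt_eq_orderHeight (hJP.trans hPm)]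
  let F : PrimeSpectrum.zeroLocus (P : Set R) → PrimeSpectrum.zeroLocus (J : Set R) :=
    fun x => ⟨x.1, hJP.trans (show P ≤ x.1.asIdeal from x.2)⟩
  exact Order.height_le_height_apply_of_strictMono F (fun a b h => h) _

variable [Algebra.FiniteType k R]

include hpos h0 in
theorem exists_radical_generators (r : ℕ) : ∀ J : Ideal R, J.IsHomogeneous 𝒜 → J ≠ ⊤ →
    H4Gr.hgt J (irr 𝒜) ≤ r →
    ∃ f : Fin r → R, (∀ l, ∃ d : ℕ, 0 < d ∧ f l ∈ 𝒜 (d : ℤ)) ∧ irr 𝒜 ≤ (J ⊔ Ideal.span (Set.range f)).radical := by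
  haveI : IsNoetherianRing R := Algebra.FiniteType.isNoetherianRing k R
  induction r with
  | zero =>
    intro J hJ hJt hh
    haveI : Nontrivial R := by
      by_contra hn
      haveI := not_nontrivial_iff_subsingleton.1 hn
      exact hJt (Subsingleton.elim _ _)
    haveI := isMaximal_irr 𝒜 hpos h0
    refine ⟨Fin.elim0, fun l => l.elim0, ?_⟩
    rw [← Ideal.sInf_minimalPrimes]
    refine le_sInf fun P hP => ?_
    haveI := hP.1.1
    have hJP : J ≤ P := le_sup_left.trans hP.1.2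
    obtain ⟨P₀, hP₀, hP₀P⟩ := Ideal.exists_minimalPrimes_le hJP
    haveI := hP₀.1.1
    have hle := le_irr_of_isHomogeneous 𝒜 hpos h0 (isHomogeneous_of_minimalPrimes 𝒜 hJ hP₀) hP₀.1.1.ne_top
    rcases hle.eq_or_lt with h | h
    · exact h ▸ hP₀P
    · have h1 := (H4Gr.hgt_add_one_le h (le_refl _)).trans ((hgt_mono hP₀.1.2 hle).trans hh)
      simp at h1
  | succ r ih =>
    intro J hJ hJt hh
    haveI : Nontrivial R := by
      by_contra hn
      haveI := not_nontrivial_iff_subsingleton.1 hn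
      exact hJt (Subsingleton.elim _ _)
    haveI := isMaximal_irr 𝒜 hpos h0
    classical
    let S := ((Ideal.finite_minimalPrimes_of_isNoetherianRing R J).toFinset).erase (irr 𝒜)
    obtain ⟨d, hd, f₀, hf₀, hfS⟩ := exists_avoid 𝒜 hpos S (fun P hP => by
        obtain ⟨hne, hP⟩ := Finset.mem_erase.1 hP
        rw [Set.Finite.mem_toFinset] at hP
        have hh' := isHomogeneous_of_minimalPrimes 𝒜 hJ hP
        exact ⟨hP.1.1, hh', fun h => hne (le_antisymm (le_irr_of_isHomogeneous 𝒜 hpos h0 hh' hP.1.1.ne_top) h)⟩)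
      (fun P hP Q hQ h => by
        obtain ⟨-, hP⟩ := Finset.mem_erase.1 hP
        obtain ⟨-, hQ⟩ := Finset.mem_erase.1 hQ
        rw [Set.Finite.mem_toFinset] at hP hQ
        exact le_antisymm h (hQ.2 hP.1 h))
    have hfm : f₀ ∈ irr 𝒜 := mem_irr_of_pos 𝒜 (by exact_mod_cast hd) hf₀
    have hJ' : (J ⊔ Ideal.span {f₀}).IsHomogeneous 𝒜 :=
      hJ.sup (Ideal.homogeneous_span _ _ fun x hx => by rw [Set.mem_singleton_iff] at hx; exact ⟨_, hx ▸ hf₀⟩)
    have hle' : J ⊔ Ideal.span {f₀} ≤ irr 𝒜 :=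
      sup_le (le_irr_of_isHomogeneous 𝒜 hpos h0 hJ hJt) ((Ideal.span_singleton_le_iff_mem _).2 hfm)
    obtain ⟨f, hf, hrad⟩ := ih _ hJ' (ne_top_of_le_ne_top (Ideal.IsMaximal.ne_top inferInstance) hle') (by
      refine H4Gr.hgt_le_of_forall_minimal hle' fun P hP hPm => ?_
      haveI := hP.1.1
      obtain ⟨P₀, hP₀, hP₀P⟩ := Ideal.exists_minimalPrimes_le (le_sup_left.trans hP.1.2 : J ≤ P)
      haveI := hP₀.1.1
      rcases hP₀P.eq_or_lt with h | h
      · by_cases hm : P₀ = irr 𝒜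
        · have hPe : P = irr 𝒜 := h.symm.trans hm
          rw [hPe, H4Gr.hgt_self]
          exact bot_le
        · exact absurd (h.symm ▸ hP.1.2 (Submodule.mem_sup_right (Ideal.mem_span_singleton_self f₀)))
            (hfS P₀ (Finset.mem_erase.2 ⟨hm, (Set.Finite.mem_toFinset _).2 hP₀⟩))
      · have h1 := (H4Gr.hgt_add_one_le h hPm).trans ((hgt_mono hP₀.1.2 (hP₀P.trans hPm)).trans hh)
        rw [Nat.cast_add, Nat.cast_one] at h1
        exact (ENat.add_le_add_iff_right ENat.one_ne_top).1 h1)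
    refine ⟨Fin.cons f₀ f, Fin.forall_fin_succ.2 ⟨⟨d, hd, by simpa using hf₀⟩, fun l => by simpa using hf l⟩, ?_⟩
    rw [Fin.range_cons, Ideal.span_insert, ← sup_assoc]
    exact hrad

include hpos h0 in
/-- Homogeneous elements of a common degree with the irrelevant ideal in the radical. -/
theorem exists_radical_generators_common (r : ℕ) (J : Ideal R) (hJ : J.IsHomogeneous 𝒜) (hJt : J ≠ ⊤)
    (hh : H4Gr.hgt J (irr 𝒜) ≤ r) :
    ∃ d : ℕ, 0 < d ∧ ∀ e : ℕ, 0 < e → ∃ f : Fin r → R,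
      (∀ l, f l ∈ 𝒜 ((d * e : ℕ) : ℤ)) ∧ irr 𝒜 ≤ (J ⊔ Ideal.span (Set.range f)).radical := by
  obtain ⟨f, hf, hrad⟩ := exists_radical_generators 𝒜 hpos h0 r J hJ hJt hh
  choose c hc hfc using hf
  refine ⟨∏ l, c l, Finset.prod_pos fun l _ => hc l, fun e he =>
    ⟨fun l => f l ^ ((∏ l' ∈ Finset.univ.erase l, c l') * e), fun l => ?_, hrad.trans ?_⟩⟩
  · have := SetLike.pow_mem_graded ((∏ l' ∈ Finset.univ.erase l, c l') * e) (hfc l)
    rwa [nsmul_eq_mul, ← Nat.cast_mul, mul_right_comm, Finset.prod_erase_mul _ _ (Finset.mem_univ l)] at this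
  · rw [Ideal.radical_le_radical_iff]
    refine sup_le (le_sup_left.trans Ideal.le_radical) (Ideal.span_le.2 ?_)
    rintro _ ⟨l, rfl⟩
    exact ⟨(∏ l' ∈ Finset.univ.erase l, c l') * e, Submodule.mem_sup_right (Ideal.subset_span ⟨l, rfl⟩)⟩

include hpos h0 in
/-- A quotient by a homogeneous ideal is finite over a polynomial ring on homogeneous generators of the
radical. -/
theorem finite_aeval {r : ℕ} (J : Ideal R) (hJ : J.IsHomogeneous 𝒜) {d : ℕ} (hd : 0 < d) (f : Fin r → R)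
    (hf : ∀ l, f l ∈ 𝒜 (d : ℤ)) (hrad : irr 𝒜 ≤ (J ⊔ Ideal.span (Set.range f)).radical) :
    ((Ideal.Quotient.mkₐ k J).comp (MvPolynomial.aeval f)).toRingHom.Finite := by
  classical
  rcases subsingleton_or_nontrivial R with hR | hR
  · exact RingHom.Finite.of_surjective _ fun x => ⟨0, Subsingleton.elim (h := Ideal.Quotient.mk_surjective.subsingleton) _ _⟩
  haveI := isMaximal_irr 𝒜 hpos h0
  set I := J ⊔ Ideal.span (Set.range f) with hI
  haveI : Ring.KrullDimLE 0 (R ⧸ I) := by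
    refine Ring.krullDimLE_zero_iff.2 fun P hP => ?_
    haveI := hP
    have h1 : irr 𝒜 ≤ P.comap (Ideal.Quotient.mk I) :=
      hrad.trans ((Ideal.IsPrime.radical_le_iff inferInstance).2 fun x hx => by
        rw [Ideal.mem_comap, Ideal.Quotient.eq_zero_iff_mem.2 hx]; exact zero_mem _)
    have h2 : (P.comap (Ideal.Quotient.mk I)).IsMaximal :=
      (Ideal.IsMaximal.eq_of_le inferInstance (Ideal.comap_ne_top _ hP.ne_top) h1) ▸ inferInstance
    have h3 := Ideal.map_eq_top_or_isMaximal_of_surjective (Ideal.Quotient.mk I) Ideal.Quotient.mk_surjective h2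
    rw [Ideal.map_comap_of_surjective _ Ideal.Quotient.mk_surjective] at h3
    exact h3.resolve_left hP.ne_top
  haveI : IsNoetherianRing (R ⧸ I) := Algebra.FiniteType.isNoetherianRing k _
  haveI : Module.Finite k (R ⧸ I) := (Module.finite_iff_isArtinianRing k _).2
    (isArtinianRing_iff_isNoetherianRing_krullDimLE_zero.2 ⟨inferInstance, inferInstance⟩)
  obtain ⟨G, hG⟩ := (Module.Finite.fg_top (R := k) (M := R ⧸ I))
  let lift := Function.surjInv (Ideal.Quotient.mk_surjective (I := I))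
  let B : Finset R := G.biUnion fun x => (decompose 𝒜 (lift x)).support.image fun i => (decompose 𝒜 (lift x) i : R)
  let g := (Ideal.Quotient.mkₐ k J).comp (MvPolynomial.aeval f)
  letI : Algebra (MvPolynomial (Fin r) k) (R ⧸ J) := g.toRingHom.toAlgebra
  refine RingHom.finite_algebraMap.2 ⟨⟨B.image (Ideal.Quotient.mk J), ?_⟩⟩
  set W := Submodule.span (MvPolynomial (Fin r) k) ((B.image (Ideal.Quotient.mk J) : Finset (R ⧸ J)) : Set (R ⧸ J))
  have hk : ∀ (c : k) (y : R ⧸ J), y ∈ W → c • y ∈ W := fun c y hy => by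
    have := W.smul_mem (MvPolynomial.C c) hy
    rwa [Algebra.smul_def, show algebraMap (MvPolynomial (Fin r) k) (R ⧸ J) (MvPolynomial.C c) = algebraMap k _ c from
      g.commutes c, ← Algebra.smul_def] at this
  suffices h : ∀ n : ℕ, ∀ x ∈ 𝒜 (n : ℤ), Ideal.Quotient.mk J x ∈ W by
    refine eq_top_iff.2 fun y _ => ?_
    obtain ⟨x, rfl⟩ := Ideal.Quotient.mk_surjective y
    rw [← DirectSum.sum_support_decompose 𝒜 x, map_sum]
    refine sum_mem fun i _ => ?_
    rcases eq_zero_or_nonneg 𝒜 hpos (decompose 𝒜 x i).2 with h' | h'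
    · rw [h', map_zero]; exact zero_mem _
    · exact h i.toNat _ (by rw [Int.toNat_of_nonneg h']; exact (decompose 𝒜 x i).2)
  intro n
  induction n using Nat.strong_induction_on with
  | _ n ih =>
    intro x hx
    have hmem : Ideal.Quotient.mk I x ∈ Submodule.span k (G : Set (R ⧸ I)) := hG ▸ Submodule.mem_top
    obtain ⟨c, -, hc⟩ := Submodule.mem_span_finset.1 hmem
    have hw : x - ∑ y ∈ G, c y • lift y ∈ I := by
      rw [← Ideal.Quotient.eq_zero_iff_mem, map_sub, map_sum, sub_eq_zero, ← hc]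
      refine Finset.sum_congr rfl fun y _ => ?_
      rw [← Ideal.Quotient.mkₐ_eq_mk k, map_smul, Ideal.Quotient.mkₐ_eq_mk]
      exact congrArg (c y • ·) (Function.surjInv_eq _ y).symm
    obtain ⟨j, hj, z, hz, hjz⟩ := Submodule.mem_sup.1 hw
    obtain ⟨a, ha⟩ := (Submodule.mem_span_range_iff_exists_fun _).1 hz
    have hx' : x = j + (∑ l, a l * f l) + ∑ y ∈ G, c y • lift y := by
      rw [show (∑ l, a l * f l) = z from ha, hjz, sub_add_cancel]
    have hn := congrArg (comp 𝒜 𝒜 (n : ℤ)) hx'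
    rw [show comp 𝒜 𝒜 (n : ℤ) x = x from DirectSum.decompose_of_mem_same 𝒜 hx, map_add, map_add, map_sum, map_sum] at hn
    rw [hn, map_add, map_add, show Ideal.Quotient.mk J (comp 𝒜 𝒜 (n : ℤ) j) = 0 from
      Ideal.Quotient.eq_zero_iff_mem.2 (hJ _ hj), zero_add, map_sum, map_sum]
    refine add_mem (sum_mem fun l _ => ?_) (sum_mem fun y hy => ?_)
    · show Ideal.Quotient.mk J (decompose 𝒜 (a l * f l) (n : ℤ) : R) ∈ W
      rcases lt_or_ge n d with hnd | hnd
      · rw [show (decompose 𝒜 (a l * f l) (n : ℤ) : R) = 0 from ?_, map_zero]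
        · exact zero_mem _
        · induction a l using DirectSum.Decomposition.inductionOn 𝒜 with
          | zero => simp
          | @homogeneous i b =>
            rcases eq_zero_or_nonneg 𝒜 hpos b.2 with h' | h'
            · simp [h']
            · exact DirectSum.decompose_of_mem_ne 𝒜 (SetLike.mul_mem_graded b.2 (hf l)) (by omega)
          | add b b' hb hb' => rw [add_mul, decompose_add, DirectSum.add_apply, Submodule.coe_add, hb, hb', add_zero]
      · rw [show (n : ℤ) = ((n - d : ℕ) : ℤ) + (d : ℤ) by omega,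
          DirectSum.coe_decompose_mul_add_of_right_mem 𝒜 (hf l), map_mul, mul_comm]
        have := W.smul_mem (MvPolynomial.X l) (ih (n - d) (by omega) _ (decompose 𝒜 (a l) ((n - d : ℕ) : ℤ)).2)
        rwa [Algebra.smul_def, show algebraMap (MvPolynomial (Fin r) k) (R ⧸ J) (MvPolynomial.X l) =
          Ideal.Quotient.mk J (f l) from congrArg (Ideal.Quotient.mk J) (MvPolynomial.aeval_X f l)] at this
    · rw [map_smul, ← Ideal.Quotient.mkₐ_eq_mk k, map_smul]
      refine hk _ _ ?_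
      show Ideal.Quotient.mk J (decompose 𝒜 (lift y) (n : ℤ) : R) ∈ W
      by_cases hs : (n : ℤ) ∈ (decompose 𝒜 (lift y)).support
      · exact Submodule.subset_span (Finset.mem_image.2
          ⟨_, Finset.mem_biUnion.2 ⟨y, hy, Finset.mem_image.2 ⟨_, hs, rfl⟩⟩, rfl⟩)
      · rw [DFinsupp.notMem_support_iff.1 hs, ZeroMemClass.coe_zero, map_zero]
        exact zero_mem _

include hpos h0 in
theorem exists_sop (r : ℕ) (J : Ideal R) (hJ : J.IsHomogeneous 𝒜) (hJt : J ≠ ⊤)
    (hh : ringKrullDim (R ⧸ J) ≤ r) :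
    ∃ d : ℕ, 0 < d ∧ ∀ e : ℕ, 0 < e → ∃ f : Fin r → R, (∀ l, f l ∈ 𝒜 ((d * e : ℕ) : ℤ)) ∧
      ((Ideal.Quotient.mkₐ k J).comp (MvPolynomial.aeval f)).toRingHom.Finite := by
  haveI : Nontrivial R := by
    by_contra hn
    haveI := not_nontrivial_iff_subsingleton.1 hn
    exact hJt (Subsingleton.elim _ _)
  haveI := isMaximal_irr 𝒜 hpos h0
  have hle := le_irr_of_isHomogeneous 𝒜 hpos h0 hJ hJt
  haveI : ((irr 𝒜).map (Ideal.Quotient.mk J)).IsPrime := Ideal.isPrime_map_quotientMk_of_isPrime hle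
  have h1 : H4Gr.hgt J (irr 𝒜) ≤ r := by
    exact_mod_cast (Ideal.height_le_ringKrullDim_of_ne_top (Ideal.IsPrime.ne_top inferInstance)).trans hh
  obtain ⟨d, hd, h⟩ := exists_radical_generators_common 𝒜 hpos h0 r J hJ hJt h1
  refine ⟨d, hd, fun e he => ?_⟩
  obtain ⟨f, hf, hrad⟩ := h e he
  exact ⟨f, hf, finite_aeval 𝒜 hpos h0 J hJ (Nat.mul_pos hd he) f hf hrad⟩

include hpos h0 in
theorem ringKrullDim_quotient_le_hgt (r : ℕ) (J : Ideal R) (hJ : J.IsHomogeneous 𝒜) (hJt : J ≠ ⊤)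
    (hh : H4Gr.hgt J (irr 𝒜) ≤ r) : ringKrullDim (R ⧸ J) ≤ r := by
  obtain ⟨d, hd, h⟩ := exists_radical_generators_common 𝒜 hpos h0 r J hJ hJt hh
  obtain ⟨f, hf, hrad⟩ := h 1 one_pos
  have hfin := finite_aeval 𝒜 hpos h0 J hJ (Nat.mul_pos hd one_pos) f hf hrad
  let g := (Ideal.Quotient.mkₐ k J).comp (MvPolynomial.aeval f)
  letI : Algebra (MvPolynomial (Fin r) k) (R ⧸ J) := g.toRingHom.toAlgebra
  haveI : Algebra.IsIntegral (MvPolynomial (Fin r) k) (R ⧸ J) := ⟨hfin.to_isIntegral⟩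
  refine (Order.krullDim_le_of_strictMono (PrimeSpectrum.comap (algebraMap (MvPolynomial (Fin r) k) (R ⧸ J)))
    (fun _ _ hlt => Ideal.IsIntegral.comap_lt_comap hlt)).trans ?_
  show ringKrullDim (MvPolynomial (Fin r) k) ≤ _
  rw [MvPolynomial.ringKrullDim_of_isNoetherianRing, ringKrullDim_eq_zero_of_field, zero_add, Nat.card_fin]

end Groth.Agent.H4Segre
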