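import Groth.Agent.H4Segre.DimP
import Groth.Agent.H4Gr.SupportDim
import Groth.Agent.H4Depth.CM
import Mathlib.RingTheory.Localization.Ideal
import Mathlib.RingTheory.Ideal.AssociatedPrime.Localization

/-!
# Elements of maximal dimension in graded modules
-/

set_option autoImplicit false
set_option linter.style.haveILetI false
set_option linter.unusedSectionVars false

universe u

open DirectSum

namespace Groth.Agent.H4Segre

/-- A localisation has no more dimension, on quotients by comparable primes. -/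
theorem ringKrullDim_localization_quotient_le {S L : Type u} [CommRing S] [CommRing L] [Algebra S L]
    (M : Submonoid S) [IsLocalization M L] (P : Ideal L) :
    ringKrullDim (L ⧸ P) ≤ ringKrullDim (S ⧸ P.comap (algebraMap S L)) := by
  rw [ringKrullDim_quotient, ringKrullDim_quotient]
  exact Order.krullDim_le_of_strictMono
    (fun Q => ⟨⟨Q.1.asIdeal.comap (algebraMap S L), inferInstance⟩, Ideal.comap_mono Q.2⟩)
    fun _ _ h => (IsLocalization.orderEmbedding M L).strictMono h

variable {k : Type u} [Field k] {R : Type u} [CommRing R] [Algebra k R] (𝒜 : ℤ → Submodule k R) [GradedAlgebra 𝒜]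
  {M : Type u} [AddCommGroup M] [Module R M] [Module k M] [IsScalarTower k R M]
  {τ : Type u} [SetLike τ M] [AddSubgroupClass τ M] (ℳ : ℤ → τ) [DirectSum.Decomposition ℳ] [SetLike.GradedSMul 𝒜 ℳ]

theorem isHomogeneous_annElt {g : ℤ} {m : M} (hm : m ∈ ℳ g) : (annElt R m).IsHomogeneous 𝒜 := by
  intro i r hr
  rw [mem_annElt] at hr ⊢
  rw [← comp_smul_right 𝒜 ℳ hm r i, hr, map_zero]

theorem annihilator_le_annElt (m : M) : Module.annihilator R M ≤ annElt R m :=
  fun _ hx => mem_annElt.2 (Module.mem_annihilator.1 hx m)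

variable [Module.Finite R M]

theorem ringKrullDim_annElt_le {r : ℕ} (hd : Module.supportDim R M = r) (m : M) :
    ringKrullDim (R ⧸ annElt R m) ≤ r := by
  rw [← hd, Module.supportDim_eq_ringKrullDim_quotient_annihilator]
  exact ringKrullDim_le_of_surjective _ (Ideal.Quotient.factor_surjective (annihilator_le_annElt m))

include ℳ in
/-- Some homogeneous element has the dimension of the module. -/
theorem exists_maxDim {r : ℕ} (hd : Module.supportDim R M = r) :
    ∃ (g : ℤ) (m : M), m ∈ ℳ g ∧ ∃ p : Ideal R, p.IsPrime ∧ annElt R m ≤ p ∧ ringKrullDim (R ⧸ p) = r ∧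
      ringKrullDim (R ⧸ annElt R m) = r := by
  classical
  have hd' := hd
  rw [Module.supportDim_eq_ringKrullDim_quotient_annihilator, ringKrullDim_quotient] at hd'
  obtain ⟨l, hl⟩ := (Order.le_krullDim_iff (n := r)).1 hd'.ge
  set p := l.head.1.asIdeal with hp
  haveI : p.IsPrime := l.head.1.isPrime
  have hannp : Module.annihilator R M ≤ p := l.head.2
  have hdp : (r : WithBot ℕ∞) ≤ ringKrullDim (R ⧸ p) := by
    rw [ringKrullDim_quotient]
    refine Order.le_krullDim_iff.2 ⟨LTSeries.mk l.length (fun i => ⟨(l i).1, LTSeries.head_le l i⟩)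
      (fun i j hij => l.strictMono hij), hl⟩
  obtain ⟨G, hG⟩ := Module.Finite.fg_top (R := R) (M := M)
  let B : Finset ((i : ℤ) × ℳ i) := G.biUnion fun x => (decompose ℳ x).support.image fun i => ⟨i, decompose ℳ x i⟩
  have hle : B.inf (fun q => annElt R (q.2 : M)) ≤ p := by
    refine le_trans (fun x hx => Module.mem_annihilator.2 fun m => ?_) hannp
    rw [Submodule.mem_finsetInf] at hx
    have hm : m ∈ Submodule.span R (G : Set M) := hG ▸ Submodule.mem_top
    induction hm using Submodule.span_induction with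
    | mem y hy =>
      rw [← DirectSum.sum_support_decompose ℳ y, Finset.smul_sum]
      refine Finset.sum_eq_zero fun i hi => mem_annElt.1 (hx ⟨i, decompose ℳ y i⟩ ?_)
      exact Finset.mem_biUnion.2 ⟨y, hy, Finset.mem_image.2 ⟨i, hi, rfl⟩⟩
    | zero => exact smul_zero _
    | add a b _ _ ha hb => rw [smul_add, ha, hb, add_zero]
    | smul c a _ ha => rw [smul_comm, ha, smul_zero]
  obtain ⟨q, -, hq⟩ := (Ideal.IsPrime.inf_le' inferInstance).1 hle
  have h1 : ringKrullDim (R ⧸ p) ≤ ringKrullDim (R ⧸ annElt R (q.2 : M)) :=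
    ringKrullDim_le_of_surjective _ (Ideal.Quotient.factor_surjective hq)
  have h2 := ringKrullDim_annElt_le hd (q.2 : M)
  exact ⟨q.1, q.2, q.2.2, p, inferInstance, hq, le_antisymm (h1.trans h2) hdp, le_antisymm h2 (hdp.trans h1)⟩

variable (hpos : ∀ n : ℤ, n < 0 → 𝒜 n = ⊥) (h0 : 𝒜 0 = Submodule.span k {(1 : R)}) [Algebra.FiniteType k R]

include ℳ hpos h0 in
/-- Over a standard graded ring, elements of maximal dimension occur in every large degree. -/
theorem exists_maxDim_degree (hstd : irr 𝒜 = Ideal.span ((𝒜 1 : Submodule k R) : Set R)) {r : ℕ}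
    (hr : 1 ≤ r) (hd : Module.supportDim R M = r) :
    ∃ g : ℤ, ∀ e : ℤ, g ≤ e → ∃ m ∈ ℳ e, ringKrullDim (R ⧸ annElt R m) = r := by
  obtain ⟨g, m, hm, p, hp, hle, hpd, -⟩ := exists_maxDim ℳ hd
  obtain ⟨x, hx, hxp⟩ : ∃ x ∈ 𝒜 1, x ∉ p := by
    by_contra hall
    push Not at hall
    have hirr : irr 𝒜 ≤ p := hstd.le.trans (Ideal.span_le.2 hall)
    haveI : Nontrivial R := nontrivial_of_ne 1 0 fun h => hp.ne_top
      ((Ideal.eq_top_iff_one p).2 (h ▸ p.zero_mem))
    haveI := isMaximal_irr 𝒜 hpos h0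
    haveI : p.IsMaximal := (Ideal.IsMaximal.eq_of_le inferInstance hp.ne_top hirr) ▸ inferInstance
    letI := Ideal.Quotient.field p
    rw [ringKrullDim_eq_zero_of_field] at hpd
    norm_cast at hpd
    omega
  refine ⟨g, fun e he => ⟨x ^ (e - g).toNat • m, ?_, le_antisymm (ringKrullDim_annElt_le hd _) ?_⟩⟩
  · have h1 : x ^ (e - g).toNat • m ∈ ℳ (((e - g).toNat • (1 : ℤ)) + g) :=
      SetLike.GradedSMul.smul_mem (SetLike.pow_mem_graded _ hx) hm
    rwa [nsmul_one, Int.toNat_of_nonneg (by omega), sub_add_cancel] at h1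
  · rw [← hpd]
    refine ringKrullDim_le_of_surjective _ (Ideal.Quotient.factor_surjective fun c hc => ?_)
    rw [mem_annElt, ← mul_smul] at hc
    exact (hp.mem_or_mem (hle (mem_annElt.2 hc))).resolve_right fun h => hxp (hp.mem_of_pow_mem _ h)

include ℳ hpos h0 in
/-- In a Cohen–Macaulay graded module every nonzero homogeneous element has maximal dimension. -/
theorem ringKrullDim_annElt_of_isCM {r : ℕ} (hd : Module.supportDim R M = r)
    (hcm : ∀ (q : Ideal R) [q.IsPrime], Subsingleton (LocalizedModule q.primeCompl M) ∨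
      LocCoh.IsCohenMacaulayModule (Localization.AtPrime q) (LocalizedModule q.primeCompl M))
    {g : ℤ} {m : M} (hm : m ∈ ℳ g) (hm0 : m ≠ 0) : ringKrullDim (R ⧸ annElt R m) = r := by
  haveI : IsNoetherianRing R := Algebra.FiniteType.isNoetherianRing k R
  refine le_antisymm (ringKrullDim_annElt_le hd m) ?_
  haveI : Nontrivial R := by
    by_contra hn
    haveI := not_nontrivial_iff_subsingleton.1 hn
    exact hm0 (by rw [← one_smul R m, Subsingleton.elim (1 : R) 0, zero_smul])
  haveI := isMaximal_irr 𝒜 hpos h0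
  have hne : annElt R m ≠ ⊤ := fun h => hm0 (by simpa using mem_annElt.1 ((Ideal.eq_top_iff_one _).1 h))
  obtain ⟨p, hp, -⟩ := Ideal.exists_minimalPrimes_le (le_irr_of_isHomogeneous 𝒜 hpos h0 (isHomogeneous_annElt 𝒜 ℳ hm) hne)
  haveI := hp.1.1
  have hpirr : p ≤ irr 𝒜 :=
    le_irr_of_isHomogeneous 𝒜 hpos h0 (isHomogeneous_of_minimalPrimes 𝒜 (isHomogeneous_annElt 𝒜 ℳ hm) hp) hp.1.1.ne_top
  have hass : p ∈ associatedPrimes R M := by
    haveI : Module.Finite R (R ∙ m) := Module.Finite.iff_fg.2 (Submodule.fg_span_singleton m)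
    have e : Module.annihilator R (R ∙ m) = annElt R m := Ideal.ext fun c =>
      (Submodule.mem_annihilator_span_singleton m c).trans mem_annElt.symm
    exact associatedPrimes.subset_of_injective (Submodule.injective_subtype (R ∙ m))
      (Module.associatedPrimes.minimalPrimes_annihilator_subset_associatedPrimes R (R ∙ m) (e ▸ hp))
  set L := Localization.AtPrime (irr 𝒜)
  set ML := LocalizedModule (irr 𝒜).primeCompl M
  let q : Ideal L := p.map (algebraMap R L)
  have hdisj : Disjoint ((irr 𝒜).primeCompl : Set R) (p : Set R) :=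
    Set.disjoint_left.2 fun x hx hxp => hx (hpirr hxp)
  have hq : q.comap (algebraMap R L) = p :=
    IsLocalization.comap_map_of_isPrime_disjoint (irr 𝒜).primeCompl L hp.1.1 hdisj
  have hqass : q ∈ associatedPrimes L ML :=
    Module.associatedPrimes.mem_associatedPrimes_of_comap_mem_associatedPrimes_of_isLocalizedModule
      (irr 𝒜).primeCompl (LocalizedModule.mkLinearMap (irr 𝒜).primeCompl M) q (hq.symm ▸ hass)
  have hcm' := (hcm (irr 𝒜)).resolve_left fun hsub => by
    have hmem : (⟨p, hp.1.1⟩ : PrimeSpectrum R) ∈ Module.support R M := by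
      rw [Module.support_eq_zeroLocus]
      exact (annihilator_le_annElt m).trans hp.1.2
    exact (Module.notMem_support_iff (p := (⟨irr 𝒜, inferInstance⟩ : PrimeSpectrum R))).2 hsub
      (Module.mem_support_mono hpirr hmem)
  have hann : Module.annihilator R M ≤ irr 𝒜 :=
    le_irr_of_isHomogeneous 𝒜 hpos h0 (isHomogeneous_annihilator 𝒜 ℳ) fun h =>
      hne (top_le_iff.1 (h ▸ annihilator_le_annElt m))
  have h1 := H4Depth.IsCM.ringKrullDim_quotient_eq hcm' hqass
  rw [H4Gr.supportDim_localization_eq_hgt (irr 𝒜) M hann] at h1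
  have h2 : ringKrullDim (L ⧸ q) ≤ ringKrullDim (R ⧸ p) := by
    have := ringKrullDim_localization_quotient_le (irr 𝒜).primeCompl q
    rwa [hq] at this
  haveI : ((irr 𝒜).map (Ideal.Quotient.mk (Module.annihilator R M))).IsPrime :=
    Ideal.isPrime_map_quotientMk_of_isPrime hann
  obtain ⟨n, hn⟩ := ENat.ne_top_iff_exists.1 (H4Gr.hgt_ne_top hann)
  have h3 : (r : WithBot ℕ∞) ≤ n := by
    rw [← hd, Module.supportDim_eq_ringKrullDim_quotient_annihilator]
    exact ringKrullDim_quotient_le_hgt 𝒜 hpos h0 n _ (isHomogeneous_annihilator 𝒜 ℳ)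
      (fun h => hne (top_le_iff.1 (h ▸ annihilator_le_annElt m))) hn.ge
  calc (r : WithBot ℕ∞) ≤ n := h3
    _ = ringKrullDim (L ⧸ q) := by rw [h1, ← hn]; rfl
    _ ≤ ringKrullDim (R ⧸ p) := h2
    _ ≤ _ := ringKrullDim_le_of_surjective _ (Ideal.Quotient.factor_surjective hp.1.2)

end Groth.Agent.H4Segre
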