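import Groth.Prelude.Def_GrSeg
import Mathlib.RingTheory.GradedAlgebra.Basic
import Mathlib.Algebra.GradedMulAction
import Mathlib.RingTheory.TensorProduct.Finite
import Mathlib.RingTheory.FiniteType
import Mathlib.RingTheory.Noetherian.Basic
import Mathlib.RingTheory.Finiteness.Basic

/-!
# The diagonal of a tensor product of graded modules
-/

set_option autoImplicit false
set_option linter.style.haveILetI false
set_option linter.unusedSectionVars false

universe u

open DirectSum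
open scoped TensorProduct

namespace Groth.Agent.H4Segre

variable {k : Type u} [CommRing k] {R : Type u} [CommRing R] [Algebra k R] (𝒜 : ℤ → Submodule k R) [GradedAlgebra 𝒜]
  {M : Type u} [AddCommGroup M] [Module R M] [Module k M] [IsScalarTower k R M]
  {τ : Type u} [SetLike τ M] [AddSubgroupClass τ M] (ℳ : ℤ → τ) [DirectSum.Decomposition ℳ] [SetLike.GradedSMul 𝒜 ℳ]

include 𝒜 in
theorem smul_mem_piece (c : k) {n : ℤ} {x : M} (hx : x ∈ ℳ n) : c • x ∈ ℳ n := by
  have h : algebraMap k R c ∈ 𝒜 0 := SetLike.algebraMap_mem_graded 𝒜 c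
  have h2 := SetLike.GradedSMul.smul_mem (B := ℳ) h hx
  rw [algebraMap_smul] at h2
  simpa using h2

theorem comp_smul {i : ℤ} {a : R} (ha : a ∈ 𝒜 i) (x : M) (n : ℤ) :
    (decompose ℳ (a • x) (i + n) : M) = a • (decompose ℳ x n : M) := by
  induction x using DirectSum.Decomposition.inductionOn ℳ with
  | zero => simp
  | @homogeneous m x =>
    have hmem : a • (x : M) ∈ ℳ (i + m) := SetLike.GradedSMul.smul_mem (B := ℳ) ha x.2
    rcases eq_or_ne m n with rfl | hne
    · rw [decompose_of_mem_same ℳ hmem, decompose_of_mem_same ℳ x.2]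
    · rw [decompose_of_mem_ne ℳ hmem (by omega), decompose_of_mem_ne ℳ x.2 hne, smul_zero]
  | add x y hx hy =>
    rw [smul_add, decompose_add, decompose_add, DirectSum.add_apply, DirectSum.add_apply, AddMemClass.coe_add,
      AddMemClass.coe_add, hx, hy, smul_add]

include 𝒜 in
/-- The component of degree `n`, `k`-linearly. -/
def comp (n : ℤ) : M →ₗ[k] M where
  toFun x := (decompose ℳ x n : M)
  map_add' x y := by rw [decompose_add, DirectSum.add_apply, AddMemClass.coe_add]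
  map_smul' c x := by
    have h : algebraMap k R c ∈ 𝒜 0 := SetLike.algebraMap_mem_graded 𝒜 c
    have h2 := comp_smul 𝒜 ℳ h x n
    rwa [zero_add, algebraMap_smul, algebraMap_smul] at h2

theorem comp_of_mem {n m : ℤ} {x : M} (hx : x ∈ ℳ m) : comp 𝒜 ℳ n x = if m = n then x else 0 := by
  show (decompose ℳ x n : M) = _
  split_ifs with h
  · subst h; exact decompose_of_mem_same ℳ hx
  · exact decompose_of_mem_ne ℳ hx h

variable {S : Type u} [CommRing S] [Algebra k S] (ℬ : ℤ → Submodule k S) [GradedAlgebra ℬ]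
  {N : Type u} [AddCommGroup N] [Module S N] [Module k N] [IsScalarTower k S N]
  {τ' : Type u} [SetLike τ' N] [AddSubgroupClass τ' N] (𝒩 : ℤ → τ') [DirectSum.Decomposition 𝒩] [SetLike.GradedSMul ℬ 𝒩]

/-- The bilinear map `(x, y) ↦ Σ xₙ ⊗ yₙ`. -/
noncomputable def diagBil : M →+ (N →ₗ[k] M ⊗[k] N) :=
  (DirectSum.toAddMonoid fun n : ℤ => AddMonoidHom.mk' (fun m : ℳ n => (TensorProduct.mk k M N m) ∘ₗ comp ℬ 𝒩 n)
      fun a b => by rw [AddMemClass.coe_add, map_add, LinearMap.add_comp]).comp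
    (decomposeAddEquiv ℳ).toAddMonoidHom

theorem diagBil_of_mem {n : ℤ} {x : M} (hx : x ∈ ℳ n) :
    diagBil (k := k) ℳ ℬ 𝒩 x = (TensorProduct.mk k M N x) ∘ₗ comp ℬ 𝒩 n := by
  show DirectSum.toAddMonoid _ (decompose ℳ x) = _
  rw [decompose_of_mem ℳ hx, DirectSum.toAddMonoid_of]
  rfl

include 𝒜 in
theorem diagBil_smul (c : k) (x : M) : diagBil (k := k) ℳ ℬ 𝒩 (c • x) = c • diagBil (k := k) ℳ ℬ 𝒩 x := by
  induction x using DirectSum.Decomposition.inductionOn ℳ with
  | zero => rw [smul_zero, map_zero, smul_zero]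
  | @homogeneous m x =>
    rw [diagBil_of_mem ℳ ℬ 𝒩 (smul_mem_piece 𝒜 ℳ c x.2), diagBil_of_mem ℳ ℬ 𝒩 x.2, map_smul, LinearMap.smul_comp]
  | add x y hx hy => rw [smul_add, map_add, map_add, hx, hy, smul_add]

include 𝒜 in
/-- The projection onto the diagonal. -/
noncomputable def diag : M ⊗[k] N →ₗ[k] M ⊗[k] N :=
  TensorProduct.lift
    { toFun := diagBil (k := k) ℳ ℬ 𝒩
      map_add' := map_add _
      map_smul' := diagBil_smul 𝒜 ℳ ℬ 𝒩 }

theorem diag_tmul {n : ℤ} {x : M} (hx : x ∈ ℳ n) (y : N) :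
    diag 𝒜 ℳ ℬ 𝒩 (x ⊗ₜ[k] y) = x ⊗ₜ[k] comp ℬ 𝒩 n y := by
  show diagBil (k := k) ℳ ℬ 𝒩 x y = _
  rw [diagBil_of_mem ℳ ℬ 𝒩 hx]
  rfl

theorem diag_of_mem_segrePiece {n : ℤ} {z : M ⊗[k] N} (hz : z ∈ GrSeg.segrePiece k ℳ 𝒩 n) :
    diag 𝒜 ℳ ℬ 𝒩 z = z := by
  induction hz using Submodule.span_induction with
  | mem z hz =>
    obtain ⟨a, ha, b, hb, rfl⟩ := hz
    rw [diag_tmul 𝒜 ℳ ℬ 𝒩 ha, comp_of_mem ℬ 𝒩 hb, if_pos rfl]
  | zero => rw [map_zero]
  | add x y _ _ hx hy => rw [map_add, hx, hy]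
  | smul c x _ hx => rw [map_smul, hx]

theorem diag_mem_iSup (z : M ⊗[k] N) : diag 𝒜 ℳ ℬ 𝒩 z ∈ ⨆ n, GrSeg.segrePiece k ℳ 𝒩 n := by
  induction z using TensorProduct.induction_on with
  | zero => rw [map_zero]; exact zero_mem _
  | tmul x y =>
    induction x using DirectSum.Decomposition.inductionOn ℳ with
    | zero => rw [TensorProduct.zero_tmul, map_zero]; exact zero_mem _
    | @homogeneous m x =>
      rw [diag_tmul 𝒜 ℳ ℬ 𝒩 x.2]
      exact Submodule.mem_iSup_of_mem m (Submodule.subset_span ⟨x, x.2, _, (decompose 𝒩 y m).2, rfl⟩)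
    | add a b ha hb => rw [TensorProduct.add_tmul, map_add]; exact add_mem ha hb
  | add a b ha hb => rw [map_add]; exact add_mem ha hb

theorem diag_of_mem_iSup {z : M ⊗[k] N} (hz : z ∈ ⨆ n, GrSeg.segrePiece k ℳ 𝒩 n) : diag 𝒜 ℳ ℬ 𝒩 z = z := by
  induction hz using Submodule.iSup_induction' with
  | mem n z hz => exact diag_of_mem_segrePiece 𝒜 ℳ ℬ 𝒩 hz
  | zero => rw [map_zero]
  | add x y _ _ hx hy => rw [map_add, hx, hy]

/-- The diagonal projection commutes with multiplication by diagonal elements. -/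
theorem diag_act (u : R ⊗[k] S) {z : M ⊗[k] N} (hz : z ∈ ⨆ n, GrSeg.segrePiece k ℳ 𝒩 n) :
    diag 𝒜 ℳ ℬ 𝒩 (GrSeg.act k R S M N u z) = GrSeg.act k R S M N (diag 𝒜 𝒜 ℬ ℬ u) z := by
  induction hz using Submodule.iSup_induction' with
  | zero => simp
  | add x y _ _ hx hy => simp only [map_add, hx, hy]
  | mem n z hz =>
    induction hz using Submodule.span_induction with
    | zero => simp
    | add x y _ _ hx hy => simp only [map_add, hx, hy]
    | smul c x _ hx => simp only [map_smul, hx]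
    | mem z hz =>
      obtain ⟨m, hm, y, hy, rfl⟩ := hz
      induction u using TensorProduct.induction_on with
      | zero => simp
      | add a b ha hb => simp only [map_add, LinearMap.add_apply, ha, hb]
      | tmul a b =>
        induction a using DirectSum.Decomposition.inductionOn 𝒜 with
        | zero => simp
        | add a a' ha ha' => simp only [TensorProduct.add_tmul, map_add, LinearMap.add_apply, ha, ha']
        | @homogeneous i a =>
          have hmem : (a : R) • m ∈ ℳ (i + n) := SetLike.GradedSMul.smul_mem (B := ℳ) a.2 hm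
          rw [diag_tmul 𝒜 𝒜 ℬ ℬ a.2, GrSeg.act_tmul, GrSeg.act_tmul, diag_tmul 𝒜 ℳ ℬ 𝒩 hmem]
          congr 1
          induction b using DirectSum.Decomposition.inductionOn ℬ with
          | zero => simp
          | add b b' hb hb' => simp only [add_smul, map_add, hb, hb']
          | @homogeneous j b =>
            rw [comp_of_mem ℬ ℬ b.2, comp_of_mem ℬ 𝒩 (SetLike.GradedSMul.smul_mem (B := 𝒩) b.2 hy)]
            simp only [vadd_eq_add]
            by_cases h : j = i
            · rw [if_pos h, if_pos (by rw [h])]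
            · rw [if_neg h, if_neg (fun e => h (add_right_cancel (show j + n = i + n from e))), zero_smul]

/-- Diagonal elements commute with the diagonal projection. -/
theorem diag_act' {c : ℤ} {a : R} (ha : a ∈ 𝒜 c) {b : S} (hb : b ∈ ℬ c) (z : M ⊗[k] N) :
    diag 𝒜 ℳ ℬ 𝒩 (GrSeg.act k R S M N (a ⊗ₜ[k] b) z) = GrSeg.act k R S M N (a ⊗ₜ[k] b) (diag 𝒜 ℳ ℬ 𝒩 z) := by
  induction z using TensorProduct.induction_on with
  | zero => simp
  | add x y hx hy => simp only [map_add, hx, hy]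
  | tmul m y =>
    induction m using DirectSum.Decomposition.inductionOn ℳ with
    | zero => simp
    | add x x' hx hx' => simp only [TensorProduct.add_tmul, map_add, hx, hx']
    | @homogeneous n m =>
      have hmem : a • (m : M) ∈ ℳ (c + n) := SetLike.GradedSMul.smul_mem (B := ℳ) ha m.2
      rw [GrSeg.act_tmul, diag_tmul 𝒜 ℳ ℬ 𝒩 hmem, diag_tmul 𝒜 ℳ ℬ 𝒩 m.2, GrSeg.act_tmul]
      congr 1
      exact comp_smul ℬ 𝒩 hb y n

section Segre

variable {T : Type u} [CommRing T] [Algebra k T] {𝒯 : ℤ → Submodule k T} [GradedAlgebra 𝒯] {ψ : T →ₐ[k] R ⊗[k] S}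

theorem mem_range_iff (hdeg : ∀ n : ℤ, (𝒯 n).map ψ.toLinearMap = GrSeg.segrePiece k 𝒜 ℬ n) {u : R ⊗[k] S} :
    (∃ t, ψ t = u) ↔ u ∈ ⨆ n, GrSeg.segrePiece k 𝒜 ℬ n := by
  have h : (⨆ n, GrSeg.segrePiece k 𝒜 ℬ n) = LinearMap.range ψ.toLinearMap := by
    simp_rw [← hdeg]
    rw [← Submodule.map_iSup, (DirectSum.Decomposition.isInternal 𝒯).submodule_iSup_eq_top, Submodule.map_top]
  rw [h]
  rfl

theorem act_self (u z : R ⊗[k] S) : GrSeg.act k R S R S u z = u * z := by
  induction u using TensorProduct.induction_on with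
  | zero => simp
  | add a b ha hb => rw [map_add, LinearMap.add_apply, ha, hb, add_mul]
  | tmul a b =>
    induction z using TensorProduct.induction_on with
    | zero => simp
    | add x y hx hy => rw [map_add, hx, hy, mul_add]
    | tmul x y => rw [GrSeg.act_tmul, Algebra.TensorProduct.tmul_mul_tmul, smul_eq_mul, smul_eq_mul]

include 𝒜 ℬ in
/-- The Segre product of two Noetherian graded algebras is Noetherian. -/
theorem isNoetherianRing_segre [IsNoetherianRing (R ⊗[k] S)] (hψ : Function.Injective ψ)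
    (hdeg : ∀ n : ℤ, (𝒯 n).map ψ.toLinearMap = GrSeg.segrePiece k 𝒜 ℬ n) : IsNoetherianRing T := by
  refine ⟨fun I => ?_⟩
  obtain ⟨s, hs⟩ := (Submodule.fg_span_iff_fg_span_finset_subset (R := R ⊗[k] S) (ψ '' (I : Set T))).1
    (IsNoetherian.noetherian _)
  classical
  obtain ⟨hsub, hspan⟩ := hs
  choose f hfI hf using fun x (hx : x ∈ s) => hsub hx
  refine ⟨s.attach.image fun x => f x.1 x.2, le_antisymm (Submodule.span_le.2 fun t ht => ?_) fun x hx => ?_⟩
  · obtain ⟨y, -, rfl⟩ := Finset.mem_image.1 ht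
    exact hfI _ _
  · have hmem : ψ x ∈ Submodule.span (R ⊗[k] S) (s : Set (R ⊗[k] S)) := hspan ▸ Submodule.subset_span ⟨x, hx, rfl⟩
    obtain ⟨c, -, hc⟩ := Submodule.mem_span_finset.1 hmem
    have hd := diag_of_mem_iSup 𝒜 𝒜 ℬ ℬ ((mem_range_iff 𝒜 ℬ hdeg).1 ⟨x, rfl⟩)
    rw [← hc, map_sum] at hd
    choose t ht using fun i => (mem_range_iff 𝒜 ℬ hdeg).2 (diag_mem_iSup 𝒜 𝒜 ℬ ℬ (c i))
    have key : x = ∑ y ∈ s.attach, t y.1 * f y.1 y.2 := hψ (by
      rw [← hc, ← hd, map_sum, ← Finset.sum_attach s]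
      refine Finset.sum_congr rfl fun y _ => ?_
      rw [map_mul, ht, hf, smul_eq_mul, ← act_self, diag_act 𝒜 𝒜 ℬ ℬ _ ((mem_range_iff 𝒜 ℬ hdeg).1 ⟨_, hf y.1 y.2⟩), act_self])
    rw [key]
    exact Submodule.sum_mem _ fun y hy => Submodule.smul_mem _ _ (Submodule.subset_span (Finset.mem_image.2 ⟨y, hy, rfl⟩))

variable (k R S M N) in
/-- `GrSeg.act` as an algebra map. -/
noncomputable def actHom : R ⊗[k] S →ₐ[k] Module.End k (M ⊗[k] N) :=
  Algebra.TensorProduct.lift
    ((Module.End.rTensorAlgHom k M N).comp (Algebra.lsmul k k M))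
    ((Module.End.lTensorAlgHom k N M).comp (Algebra.lsmul k k N))
    fun a b => TensorProduct.ext' fun m n => rfl

theorem actHom_apply (u : R ⊗[k] S) (z : M ⊗[k] N) : actHom k R M S N u z = GrSeg.act k R S M N u z := by
  induction u using TensorProduct.induction_on with
  | zero => simp
  | add a b ha hb => simp only [map_add, LinearMap.add_apply, ha, hb]
  | tmul a b =>
    induction z using TensorProduct.induction_on with
    | zero => simp
    | add x y hx hy => simp only [map_add, hx, hy]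
    | tmul m n => rw [actHom, Algebra.TensorProduct.lift_tmul, GrSeg.act_tmul]; rfl

variable {P : Type u} [AddCommGroup P] [Module T P] [Module k P] [IsScalarTower k T P]
  {τQ : Type u} [SetLike τQ P] [AddSubgroupClass τQ P] {𝒬 : ℤ → τQ} [DirectSum.Decomposition 𝒬]
  {φ : P →ₗ[k] M ⊗[k] N}

theorem mem_range_iff_mod (hP : GrSeg.IsSegreMod ψ ℳ 𝒩 𝒬 φ) {z : M ⊗[k] N} :
    (∃ p, φ p = z) ↔ z ∈ ⨆ n, GrSeg.segrePiece k ℳ 𝒩 n := by
  constructor
  · rintro ⟨p, rfl⟩
    induction p using DirectSum.Decomposition.inductionOn 𝒬 with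
    | zero => rw [map_zero]; exact zero_mem _
    | @homogeneous m x => exact Submodule.mem_iSup_of_mem m ((hP.image_piece m).subset ⟨x, x.2, rfl⟩)
    | add a b ha hb => rw [map_add]; exact add_mem ha hb
  · intro hz
    induction hz using Submodule.iSup_induction' with
    | mem n z hz =>
      obtain ⟨p, -, hp⟩ := (hP.image_piece n).superset hz
      exact ⟨p, hp⟩
    | zero => exact ⟨0, map_zero _⟩
    | add x y _ _ hx hy =>
      obtain ⟨p, rfl⟩ := hx
      obtain ⟨q, rfl⟩ := hy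
      exact ⟨p + q, map_add _ _ _⟩

include 𝒜 ℬ in
/-- The Segre product of finite modules is finite. -/
theorem moduleFinite_segre [IsNoetherianRing (R ⊗[k] S)] [Module.Finite R M] [Module.Finite S N]
    (hdeg : ∀ n : ℤ, (𝒯 n).map ψ.toLinearMap = GrSeg.segrePiece k 𝒜 ℬ n) (hP : GrSeg.IsSegreMod ψ ℳ 𝒩 𝒬 φ) :
    Module.Finite T P := by
  classical
  letI : Module (R ⊗[k] S) (M ⊗[k] N) := Module.compHom _ (actHom k R M S N).toRingHom
  have hsmul : ∀ (u : R ⊗[k] S) (z : M ⊗[k] N), u • z = GrSeg.act k R S M N u z := fun u z => actHom_apply u z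
  obtain ⟨gM, hgM⟩ := Module.Finite.fg_top (R := R) (M := M)
  obtain ⟨gN, hgN⟩ := Module.Finite.fg_top (R := S) (M := N)
  haveI : Module.Finite (R ⊗[k] S) (M ⊗[k] N) := by
    refine ⟨⟨(gM ×ˢ gN).image fun p => p.1 ⊗ₜ[k] p.2, eq_top_iff.2 fun z hz => ?_⟩⟩
    clear hz
    induction z using TensorProduct.induction_on with
    | zero => exact zero_mem _
    | add x y hx hy => exact add_mem hx hy
    | tmul x y =>
      have hx : x ∈ Submodule.span R (gM : Set M) := hgM ▸ Submodule.mem_top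
      have hy : y ∈ Submodule.span S (gN : Set N) := hgN ▸ Submodule.mem_top
      obtain ⟨a, -, rfl⟩ := Submodule.mem_span_finset.1 hx
      obtain ⟨b, -, rfl⟩ := Submodule.mem_span_finset.1 hy
      rw [TensorProduct.sum_tmul]
      refine Submodule.sum_mem _ fun i hi => ?_
      rw [TensorProduct.tmul_sum]
      refine Submodule.sum_mem _ fun j hj => ?_
      rw [← GrSeg.act_tmul, ← hsmul]
      exact Submodule.smul_mem _ _ (Submodule.subset_span (Finset.mem_image.2 ⟨(i, j), Finset.mem_product.2 ⟨hi, hj⟩, rfl⟩))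
  haveI : IsNoetherian (R ⊗[k] S) (M ⊗[k] N) := isNoetherian_of_isNoetherianRing_of_finite _ _
  obtain ⟨s, hsub, hspan⟩ := (Submodule.fg_span_iff_fg_span_finset_subset (R := R ⊗[k] S) (Set.range φ)).1
    (IsNoetherian.noetherian _)
  choose f hf using fun x (hx : x ∈ s) => hsub hx
  refine ⟨⟨s.attach.image fun x => f x.1 x.2, eq_top_iff.2 fun x _ => ?_⟩⟩
  have hmem : φ x ∈ Submodule.span (R ⊗[k] S) (s : Set (M ⊗[k] N)) := hspan ▸ Submodule.subset_span ⟨x, rfl⟩
  obtain ⟨c, -, hc⟩ := Submodule.mem_span_finset.1 hmem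
  have hd := diag_of_mem_iSup 𝒜 ℳ ℬ 𝒩 ((mem_range_iff_mod ℳ 𝒩 hP).1 ⟨x, rfl⟩)
  rw [← hc, map_sum] at hd
  choose t ht using fun i => (mem_range_iff 𝒜 ℬ hdeg).2 (diag_mem_iSup 𝒜 𝒜 ℬ ℬ (c i))
  have key : x = ∑ y ∈ s.attach, t y.1 • f y.1 y.2 := hP.injective (by
    rw [← hc, ← hd, map_sum, ← Finset.sum_attach s]
    refine Finset.sum_congr rfl fun y _ => ?_
    rw [hP.map_smul, ht, hf, hsmul, diag_act 𝒜 ℳ ℬ 𝒩 _ ((mem_range_iff_mod ℳ 𝒩 hP).1 ⟨_, hf y.1 y.2⟩)])
  rw [key]
  exact Submodule.sum_mem _ fun y hy => Submodule.smul_mem _ _ (Submodule.subset_span (Finset.mem_image.2 ⟨y, hy, rfl⟩))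

end Segre

end Groth.Agent.H4Segre
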