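import Groth.Agent.H4Segre.PolyDim
import Groth.Agent.H4Segre.Sop
import Mathlib.RingTheory.KrullDimension.Module
import Mathlib.RingTheory.Flat.Basic
import Mathlib.RingTheory.FiniteStability

/-!
# The dimension of Segre products of modules
-/

set_option autoImplicit false
set_option linter.style.haveILetI false
set_option linter.unusedSectionVars false

universe u

open DirectSum
open scoped TensorProduct

namespace Groth.Agent.H4Segre

variable {k : Type u} [Field k] {R : Type u} [CommRing R] [Algebra k R] (𝒜 : ℤ → Submodule k R) [GradedAlgebra 𝒜]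
  {M : Type u} [AddCommGroup M] [Module R M] [Module k M] [IsScalarTower k R M]
  {τ : Type u} [SetLike τ M] [AddSubgroupClass τ M] (ℳ : ℤ → τ) [DirectSum.Decomposition ℳ] [SetLike.GradedSMul 𝒜 ℳ]

include 𝒜 in
theorem comp_smul_right {g : ℤ} {x : M} (hx : x ∈ ℳ g) (r : R) (i : ℤ) :
    comp 𝒜 ℳ (i + g) (r • x) = (decompose 𝒜 r i : R) • x := by
  induction r using DirectSum.Decomposition.inductionOn 𝒜 with
  | zero => simp
  | @homogeneous j a =>
    rw [comp_of_mem 𝒜 ℳ (SetLike.GradedSMul.smul_mem (B := ℳ) a.2 hx)]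
    simp only [vadd_eq_add]
    by_cases h : j = i
    · subst h
      rw [if_pos rfl, DirectSum.decompose_of_mem_same 𝒜 a.2]
    · rw [if_neg (fun e => h (add_right_cancel e)), DirectSum.decompose_of_mem_ne 𝒜 a.2 h, zero_smul]
  | add a b ha hb => rw [add_smul, map_add, ha, hb, decompose_add, DirectSum.add_apply, Submodule.coe_add, add_smul]

include 𝒜 ℳ in
theorem isHomogeneous_annihilator : (Module.annihilator R M).IsHomogeneous 𝒜 := by
  intro i r hr
  rw [Module.mem_annihilator] at hr ⊢
  intro x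
  induction x using DirectSum.Decomposition.inductionOn ℳ with
  | zero => exact smul_zero _
  | @homogeneous g x => rw [← comp_smul_right 𝒜 ℳ x.2 r i, hr, map_zero]
  | add a b ha hb => rw [smul_add, ha, hb, add_zero]

/-- The annihilator of an element. -/
def annElt (R : Type u) [CommRing R] {M : Type u} [AddCommGroup M] [Module R M] (m : M) : Ideal R :=
  LinearMap.ker (LinearMap.toSpanSingleton R M m)

theorem mem_annElt {m : M} {r : R} : r ∈ annElt R m ↔ r • m = 0 := by
  simp [annElt]

/-- A system of parameters acts freely on elements with maximal dimension. -/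
theorem eq_zero_of_aeval_smul {r : ℕ} (f : Fin r → R)
    (hf : ((Ideal.Quotient.mkₐ k (Module.annihilator R M)).comp (MvPolynomial.aeval f)).toRingHom.IsIntegral)
    (m : M) (hm : ringKrullDim (R ⧸ annElt R m) = r) {c : MvPolynomial (Fin r) k}
    (hc : MvPolynomial.aeval f c • m = 0) : c = 0 := by
  by_contra hne
  have hle : Module.annihilator R M ≤ annElt R m := fun x hx => mem_annElt.2 (Module.mem_annihilator.1 hx m)
  let g : MvPolynomial (Fin r) k →+* R ⧸ annElt R m :=
    (Ideal.Quotient.factor hle).comp ((Ideal.Quotient.mkₐ k (Module.annihilator R M)).comp (MvPolynomial.aeval f)).toRingHom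
  have hg : g.IsIntegral :=
    hf.trans _ _ (RingHom.isIntegral_of_surjective _ (Ideal.Quotient.factor_surjective hle))
  letI : Algebra (MvPolynomial (Fin r) k) (R ⧸ annElt R m) := g.toAlgebra
  haveI : Algebra.IsIntegral (MvPolynomial (Fin r) k) (R ⧸ annElt R m) := ⟨hg⟩
  have hcg : algebraMap (MvPolynomial (Fin r) k) (R ⧸ annElt R m) c = 0 :=
    Ideal.Quotient.eq_zero_iff_mem.2 (mem_annElt.2 hc)
  have h1 : ringKrullDim (R ⧸ annElt R m) ≤ ringKrullDim (MvPolynomial (Fin r) k ⧸ Ideal.span {c}) := by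
    rw [ringKrullDim_quotient (Ideal.span {c})]
    refine Order.krullDim_le_of_strictMono (fun Q => ⟨PrimeSpectrum.comap (algebraMap _ _) Q, ?_⟩)
      (fun _ _ hlt => Ideal.IsIntegral.comap_lt_comap hlt)
    refine Ideal.span_le.2 ?_
    intro z hz
    rw [Set.mem_singleton_iff.1 hz]
    show algebraMap (MvPolynomial (Fin r) k) (R ⧸ annElt R m) c ∈ Q.asIdeal
    rw [hcg]; exact zero_mem _
  have h2 := ringKrullDim_quotient_succ_le_of_nonZeroDivisor (mem_nonZeroDivisors_of_ne_zero hne)
  rw [MvPolynomial.ringKrullDim_of_isNoetherianRing, ringKrullDim_eq_zero_of_field, zero_add, Nat.card_fin] at h2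
  rw [hm] at h1
  generalize ringKrullDim (MvPolynomial (Fin r) k ⧸ Ideal.span {c}) = D at h1 h2
  cases D with
  | bot => simp at h1
  | coe D =>
    have h2' : D + 1 ≤ (r : ℕ∞) := by exact_mod_cast h2
    have h1' : (r : ℕ∞) ≤ D := by exact_mod_cast h1
    have h3 : (r : ℕ∞) + 1 ≤ (r : ℕ∞) := (add_le_add_left h1' 1).trans h2'
    norm_cast at h3
    omega

variable {S : Type u} [CommRing S] [Algebra k S] (ℬ : ℤ → Submodule k S) [GradedAlgebra ℬ]
  {N : Type u} [AddCommGroup N] [Module S N] [Module k N] [IsScalarTower k S N]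
  {τ' : Type u} [SetLike τ' N] [AddSubgroupClass τ' N] (𝒩 : ℤ → τ') [DirectSum.Decomposition 𝒩] [SetLike.GradedSMul ℬ 𝒩]
  {T : Type u} [CommRing T] [Algebra k T] {𝒯 : ℤ → Submodule k T} [GradedAlgebra 𝒯] {ψ : T →ₐ[k] R ⊗[k] S}
  {P : Type u} [AddCommGroup P] [Module T P] [Module k P] [IsScalarTower k T P]
  {τQ : Type u} [SetLike τQ P] [AddSubgroupClass τQ P] {𝒬 : ℤ → τQ} [DirectSum.Decomposition 𝒬]
  {φ : P →ₗ[k] M ⊗[k] N}
  [Algebra.FiniteType k R] [Algebra.FiniteType k S] [Module.Finite R M] [Module.Finite S N]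

/-- The parameters of a Segre product acting on a Segre product of modules. -/
theorem exists_params (hposR : ∀ n : ℤ, n < 0 → 𝒜 n = ⊥) (h0R : 𝒜 0 = Submodule.span k {(1 : R)})
    (hposS : ∀ n : ℤ, n < 0 → ℬ n = ⊥) (h0S : ℬ 0 = Submodule.span k {(1 : S)})
    (hψ : Function.Injective ψ) (hdeg : ∀ n : ℤ, (𝒯 n).map ψ.toLinearMap = GrSeg.segrePiece k 𝒜 ℬ n)
    (hP : GrSeg.IsSegreMod ψ ℳ 𝒩 𝒬 φ) (r s : ℕ)
    (hdM : Module.supportDim R M = r) (hdN : Module.supportDim S N = s) :
    ∃ p : Fin r → Fin s → T ⧸ Module.annihilator T P,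
      (∀ i j i' j', p i j * p i' j' = p i j' * p i' j) ∧
      (∀ t : T ⧸ Module.annihilator T P, IsIntegral (Algebra.adjoin k (Set.range fun q : Fin r × Fin s => p q.1 q.2)) t) ∧
      (∀ (i : ℤ) (m : M), m ∈ ℳ i → ∀ n ∈ 𝒩 i, ringKrullDim (R ⧸ annElt R m) = r →
        ringKrullDim (S ⧸ annElt S n) = s → ∀ c : MvPolynomial (Fin r × Fin s) k,
        MvPolynomial.aeval (fun q : Fin r × Fin s => p q.1 q.2) c = 0 →
          MvPolynomial.aeval (fun q : Fin r × Fin s =>
            (MvPolynomial.X (Sum.inl q.1) * MvPolynomial.X (Sum.inr q.2) : MvPolynomial (Fin r ⊕ Fin s) k)) c = 0) := by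
  rw [Module.supportDim_eq_ringKrullDim_quotient_annihilator] at hdM hdN
  have htM : Module.annihilator R M ≠ ⊤ := fun h => by
    haveI := Ideal.Quotient.subsingleton_iff.2 h
    simp [ringKrullDim_eq_bot_of_subsingleton] at hdM
  have htN : Module.annihilator S N ≠ ⊤ := fun h => by
    haveI := Ideal.Quotient.subsingleton_iff.2 h
    simp [ringKrullDim_eq_bot_of_subsingleton] at hdN
  obtain ⟨d₁, hd₁, hex₁⟩ := exists_sop 𝒜 hposR h0R r _ (isHomogeneous_annihilator 𝒜 ℳ) htM hdM.le
  obtain ⟨d₂, hd₂, hex₂⟩ := exists_sop ℬ hposS h0S s _ (isHomogeneous_annihilator ℬ 𝒩) htN hdN.le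
  obtain ⟨f, hf, hffin⟩ := hex₁ d₂ hd₂
  obtain ⟨g, hg, hgfin⟩ := hex₂ d₁ hd₁
  rw [mul_comm d₂ d₁] at hg
  set D : ℤ := ((d₁ * d₂ : ℕ) : ℤ) with hD
  have hD0 : 0 < D := by rw [hD]; exact_mod_cast Nat.mul_pos hd₁ hd₂
  have hex : ∀ i j, ∃ t ∈ 𝒯 D, ψ t = f i ⊗ₜ[k] g j := fun i j =>
    (hdeg D).ge (Submodule.subset_span ⟨f i, hf i, g j, hg j, rfl⟩)
  choose p hpmem hp using hex
  have hrel : ∀ i j i' j', p i j * p i' j' = p i j' * p i' j := fun i j i' j' => hψ (by
    simp only [map_mul, hp, Algebra.TensorProduct.tmul_mul_tmul, mul_comm (g j) (g j')])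
  let π := Ideal.Quotient.mkₐ k (Module.annihilator T P)
  refine ⟨fun i j => π (p i j), fun i j i' j' => by rw [← map_mul, hrel, map_mul], fun t => ?_, ?_⟩
  · -- integrality
    obtain ⟨t, rfl⟩ := Ideal.Quotient.mkₐ_surjective k (Module.annihilator T P) t
    let G : MvPolynomial (Fin r ⊕ Fin s) k →ₐ[k] R ⊗[k] S :=
      MvPolynomial.aeval (Sum.elim (fun i => f i ⊗ₜ[k] (1 : S)) (fun j => (1 : R) ⊗ₜ[k] g j))
    let W : Ideal (R ⊗[k] S) := RingHom.ker (actHom k R M S N).toRingHom
    let h : MvPolynomial (Fin r ⊕ Fin s) k →+* (R ⊗[k] S) ⧸ W := (Ideal.Quotient.mk W).comp G.toRingHom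
    have hG : h.IsIntegral := by
      intro y
      obtain ⟨y, rfl⟩ := Ideal.Quotient.mk_surjective y
      induction y using TensorProduct.induction_on with
      | zero => rw [map_zero]; exact h.isIntegralElem_zero
      | add a b ha hb => rw [map_add]; exact ha.add h hb
      | tmul a b =>
        rw [show a ⊗ₜ[k] b = (a ⊗ₜ[k] (1 : S)) * ((1 : R) ⊗ₜ[k] b) by
          rw [Algebra.TensorProduct.tmul_mul_tmul, mul_one, one_mul], map_mul]
        refine RingHom.IsIntegralElem.mul h ?_ ?_
        · obtain ⟨q, hq, hqa⟩ := hffin.to_isIntegral (Ideal.Quotient.mk _ a)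
          refine ⟨q.map (MvPolynomial.rename Sum.inl).toRingHom, hq.map _, ?_⟩
          let σ : R ⧸ Module.annihilator R M →+* (R ⊗[k] S) ⧸ W :=
            Ideal.Quotient.lift _ ((Ideal.Quotient.mk W).comp Algebra.TensorProduct.includeLeftRingHom) fun x hx => by
              refine Ideal.Quotient.eq_zero_iff_mem.2 (LinearMap.ext fun z => ?_)
              show actHom k R M S N (x ⊗ₜ[k] (1 : S)) z = 0
              rw [actHom_apply]
              induction z using TensorProduct.induction_on with
              | zero => rw [map_zero]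
              | add a b ha hb => rw [map_add, ha, hb, add_zero]
              | tmul m n => rw [GrSeg.act_tmul, Module.mem_annihilator.1 hx m, TensorProduct.zero_tmul]
          have h1 := congrArg σ hqa
          rw [map_zero, Polynomial.hom_eval₂] at h1
          rw [Polynomial.eval₂_map]
          refine Eq.trans ?_ h1
          congr 1
          refine MvPolynomial.ringHom_ext (fun c => ?_) (fun i => ?_)
          · simp only [RingHom.comp_apply, AlgHom.toRingHom_eq_coe, RingHom.coe_coe, MvPolynomial.rename_C, h]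
            simp only [AlgHom.comp_apply, MvPolynomial.aeval_C, ← MvPolynomial.algebraMap_eq, AlgHom.commutes]
            rfl
          · simp [h, σ, G]
        · obtain ⟨q, hq, hqa⟩ := hgfin.to_isIntegral (Ideal.Quotient.mk _ b)
          refine ⟨q.map (MvPolynomial.rename Sum.inr).toRingHom, hq.map _, ?_⟩
          let σ : S ⧸ Module.annihilator S N →+* (R ⊗[k] S) ⧸ W :=
            Ideal.Quotient.lift _ ((Ideal.Quotient.mk W).comp Algebra.TensorProduct.includeRight.toRingHom) fun x hx => by
              refine Ideal.Quotient.eq_zero_iff_mem.2 (LinearMap.ext fun z => ?_)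
              show actHom k R M S N ((1 : R) ⊗ₜ[k] x) z = 0
              rw [actHom_apply]
              induction z using TensorProduct.induction_on with
              | zero => rw [map_zero]
              | add a b ha hb => rw [map_add, ha, hb, add_zero]
              | tmul m n => rw [GrSeg.act_tmul, Module.mem_annihilator.1 hx n, TensorProduct.tmul_zero]
          have h1 := congrArg σ hqa
          rw [map_zero, Polynomial.hom_eval₂] at h1
          rw [Polynomial.eval₂_map]
          refine Eq.trans ?_ h1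
          congr 1
          refine MvPolynomial.ringHom_ext (fun c => ?_) (fun i => ?_)
          · simp only [RingHom.comp_apply, AlgHom.toRingHom_eq_coe, RingHom.coe_coe, MvPolynomial.rename_C, h]
            simp only [AlgHom.comp_apply, MvPolynomial.aeval_C, ← MvPolynomial.algebraMap_eq, AlgHom.commutes]
            show Ideal.Quotient.mk W (algebraMap k (R ⊗[k] S) c) =
              Ideal.Quotient.mk W (Algebra.TensorProduct.includeRight (algebraMap k S c))
            rw [AlgHom.commutes]
          · simp [h, σ, G]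
    obtain ⟨q, hq, hqt⟩ := hG (Ideal.Quotient.mk W (ψ t))
    rw [← Polynomial.hom_eval₂, Ideal.Quotient.eq_zero_iff_mem, hq.as_sum] at hqt
    simp only [Polynomial.eval₂_add, Polynomial.eval₂_X_pow, Polynomial.eval₂_finsetSum, Polynomial.eval₂_mul,
      Polynomial.eval₂_C] at hqt
    set A := Algebra.adjoin k (Set.range fun q : Fin r × Fin s => p q.1 q.2)
    let Fp : Submodule k (R ⊗[k] S) := Submodule.span k (Set.range fun i => f i ⊗ₜ[k] (1 : S))
    let Gp : Submodule k (R ⊗[k] S) := Submodule.span k (Set.range fun j => (1 : R) ⊗ₜ[k] g j)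
    have hFG : ∀ c, ∃ a ∈ A, ψ a = diag 𝒜 𝒜 ℬ ℬ (G c) := by
      have hFle : ∀ n : ℕ, ∀ z ∈ Fp ^ n,
          z ∈ (𝒜 (n * D)).map (Algebra.TensorProduct.includeLeft : R →ₐ[k] R ⊗[k] S).toLinearMap := by
        intro n z hz
        induction hz using Submodule.pow_induction_on_left' with
        | algebraMap c =>
          refine ⟨algebraMap k R c, ?_, (Algebra.TensorProduct.includeLeft : R →ₐ[k] R ⊗[k] S).commutes c⟩
          simpa using SetLike.algebraMap_mem_graded 𝒜 c
        | add a b i _ _ ha hb => exact add_mem ha hb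
        | mem_mul m hm i x _ ih =>
          obtain ⟨x', hx', rfl⟩ := ih
          induction hm using Submodule.span_induction with
          | mem m hm =>
            obtain ⟨l, rfl⟩ := hm
            refine ⟨f l * x', ?_, ?_⟩
            · rw [show ((i.succ : ℕ) : ℤ) * D = D + (i : ℤ) * D by push_cast; ring]
              exact SetLike.mul_mem_graded (hf l) hx'
            · show (f l * x') ⊗ₜ[k] (1 : S) = f l ⊗ₜ[k] (1 : S) * x' ⊗ₜ[k] (1 : S)
              rw [Algebra.TensorProduct.tmul_mul_tmul, mul_one]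
          | zero => rw [zero_mul]; exact zero_mem _
          | add a b _ _ ha hb => rw [add_mul]; exact add_mem ha hb
          | smul c a _ ha => rw [smul_mul_assoc]; exact Submodule.smul_mem _ _ ha
      have hGle : ∀ n : ℕ, ∀ z ∈ Gp ^ n,
          z ∈ (ℬ (n * D)).map (Algebra.TensorProduct.includeRight : S →ₐ[k] R ⊗[k] S).toLinearMap := by
        intro n z hz
        induction hz using Submodule.pow_induction_on_left' with
        | algebraMap c =>
          refine ⟨algebraMap k S c, ?_, (Algebra.TensorProduct.includeRight : S →ₐ[k] R ⊗[k] S).commutes c⟩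
          simpa using SetLike.algebraMap_mem_graded ℬ c
        | add a b i _ _ ha hb => exact add_mem ha hb
        | mem_mul m hm i x _ ih =>
          obtain ⟨x', hx', rfl⟩ := ih
          induction hm using Submodule.span_induction with
          | mem m hm =>
            obtain ⟨l, rfl⟩ := hm
            refine ⟨g l * x', ?_, ?_⟩
            · rw [show ((i.succ : ℕ) : ℤ) * D = D + (i : ℤ) * D by push_cast; ring]
              exact SetLike.mul_mem_graded (hg l) hx'
            · show (1 : R) ⊗ₜ[k] (g l * x') = (1 : R) ⊗ₜ[k] g l * (1 : R) ⊗ₜ[k] x'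
              rw [Algebra.TensorProduct.tmul_mul_tmul, mul_one]
          | zero => rw [zero_mul]; exact zero_mem _
          | add a b _ _ ha hb => rw [add_mul]; exact add_mem ha hb
          | smul c a _ ha => rw [smul_mul_assoc]; exact Submodule.smul_mem _ _ ha
      intro c
      have hc : G c ∈ ⨆ e : ℕ × ℕ, Fp ^ e.1 * Gp ^ e.2 := by
        induction c using MvPolynomial.induction_on with
        | C a =>
          refine Submodule.mem_iSup_of_mem (0, 0) ?_
          rw [pow_zero, pow_zero, one_mul, ← MvPolynomial.algebraMap_eq, AlgHom.commutes]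
          exact Submodule.mem_one.2 ⟨a, rfl⟩
        | add a b ha hb => rw [map_add]; exact add_mem ha hb
        | mul_X a v ha =>
          rw [map_mul]
          generalize G a = z at ha
          induction ha using Submodule.iSup_induction' with
          | mem e z hz =>
            have h' : G (MvPolynomial.X v) ∈ Fp ^ (1 - (Sum.elim (fun _ => 0) (fun _ => 1) v : ℕ)) *
                Gp ^ (Sum.elim (fun _ => 0) (fun _ => 1) v : ℕ) := by
              rcases v with i | j
              · simp only [G, MvPolynomial.aeval_X, Sum.elim_inl, Nat.sub_zero, pow_one, pow_zero, mul_one]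
                exact Submodule.subset_span ⟨i, rfl⟩
              · simp only [G, MvPolynomial.aeval_X, Sum.elim_inr, Nat.sub_self, pow_one, pow_zero, one_mul]
                exact Submodule.subset_span ⟨j, rfl⟩
            have := Submodule.mul_mem_mul hz h'
            rw [mul_mul_mul_comm, ← pow_add, ← pow_add] at this
            exact Submodule.mem_iSup_of_mem (p := fun e : ℕ × ℕ => Fp ^ e.1 * Gp ^ e.2) (_, _) this
          | zero => rw [zero_mul]; exact zero_mem _
          | add x y _ _ hx hy => rw [add_mul]; exact add_mem hx hy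
      suffices hsuff : (⨆ e : ℕ × ℕ, Fp ^ e.1 * Gp ^ e.2) ≤
          (A.toSubmodule.map ψ.toLinearMap).comap (diag 𝒜 𝒜 ℬ ℬ) by
        obtain ⟨a, ha, he⟩ := hsuff hc
        exact ⟨a, ha, he⟩
      refine iSup_le fun e => ?_
      obtain ⟨a, b⟩ := e
      by_cases hab : a = b
      · subst hab
        have hle : Fp ^ a * Gp ^ a ≤ A.toSubmodule.map ψ.toLinearMap := by
          have h1 : Fp * Gp ≤ A.toSubmodule.map ψ.toLinearMap := by
            rw [Submodule.span_mul_span, Submodule.span_le]
            rintro _ ⟨_, ⟨i, rfl⟩, _, ⟨j, rfl⟩, rfl⟩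
            refine ⟨p i j, Algebra.subset_adjoin ⟨(i, j), rfl⟩, ?_⟩
            show ψ (p i j) = f i ⊗ₜ[k] (1 : S) * (1 : R) ⊗ₜ[k] g j
            rw [hp, Algebra.TensorProduct.tmul_mul_tmul, mul_one, one_mul]
          intro z hz
          rw [← mul_pow] at hz
          induction hz using Submodule.pow_induction_on_left' with
          | algebraMap c => exact ⟨algebraMap k T c, A.algebraMap_mem c, ψ.commutes c⟩
          | add x y i _ _ hx hy => exact add_mem hx hy
          | mem_mul m hm i x _ ih =>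
            obtain ⟨x', hx', rfl⟩ := ih
            obtain ⟨m', hm', rfl⟩ := h1 hm
            exact ⟨m' * x', A.mul_mem hm' hx', map_mul ψ m' x'⟩
        intro z hz
        have hz' := hle hz
        rw [Submodule.mem_comap]
        obtain ⟨x, hx, rfl⟩ := hz'
        exact ⟨x, hx, (diag_of_mem_iSup 𝒜 𝒜 ℬ ℬ ((mem_range_iff 𝒜 ℬ hdeg).1 ⟨x, rfl⟩)).symm⟩
      · refine Submodule.mul_le.2 fun x hx y hy => ?_
        obtain ⟨x', hx', rfl⟩ := hFle _ x hx
        obtain ⟨y', hy', rfl⟩ := hGle _ y hy
        rw [Submodule.mem_comap]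
        show diag 𝒜 𝒜 ℬ ℬ (x' ⊗ₜ[k] (1 : S) * (1 : R) ⊗ₜ[k] y') ∈ _
        rw [Algebra.TensorProduct.tmul_mul_tmul, mul_one, one_mul, diag_tmul 𝒜 𝒜 ℬ ℬ hx',
          comp_of_mem ℬ ℬ hy', if_neg (fun e => hab ?_), TensorProduct.tmul_zero]
        · exact zero_mem _
        · exact_mod_cast (mul_right_cancel₀ hD0.ne' e).symm
    choose a haA ha using fun i => hFG (q.coeff i)
    refine ⟨Polynomial.X ^ q.natDegree + ∑ i ∈ Finset.range q.natDegree,
      Polynomial.C (⟨π (a i), ?_⟩ : Algebra.adjoin k (Set.range fun q : Fin r × Fin s => π (p q.1 q.2))) * Polynomial.X ^ i,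
      Polynomial.monic_X_pow_add ((Polynomial.degree_sum_le _ _).trans_lt ((Finset.sup_lt_iff (WithBot.bot_lt_coe _)).2
        fun i hi => (Polynomial.degree_C_mul_X_pow_le i _).trans_lt (by exact_mod_cast Finset.mem_range.1 hi))), ?_⟩
    · have := AlgHom.map_adjoin π (Set.range fun q : Fin r × Fin s => p q.1 q.2)
      rw [← Set.range_comp] at this
      exact this.le ⟨a i, haA i, rfl⟩
    simp only [Polynomial.eval₂_add, Polynomial.eval₂_X_pow, Polynomial.eval₂_finsetSum, Polynomial.eval₂_mul,
      Polynomial.eval₂_C]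
    show π t ^ q.natDegree + ∑ i ∈ Finset.range q.natDegree, π (a i) * π t ^ i = 0
    simp only [← map_pow, ← map_mul, ← map_sum, ← map_add]
    refine Ideal.Quotient.eq_zero_iff_mem.2 (Module.mem_annihilator.2 fun x => hP.injective ?_)
    rw [hP.map_smul, map_zero]
    set w := ψ t ^ q.natDegree + ∑ i ∈ Finset.range q.natDegree, G (q.coeff i) * ψ t ^ i
    have hwW : w ∈ W := hqt
    have hψw : ψ (t ^ q.natDegree + ∑ i ∈ Finset.range q.natDegree, a i * t ^ i) = diag 𝒜 𝒜 ℬ ℬ w := by
      simp only [w, map_add, map_sum, map_mul, map_pow]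
      congr 1
      · rw [← map_pow]
        exact (diag_of_mem_iSup 𝒜 𝒜 ℬ ℬ ((mem_range_iff 𝒜 ℬ hdeg).1 ⟨_, rfl⟩)).symm
      · refine Finset.sum_congr rfl fun i _ => ?_
        rw [ha, ← map_pow, ← act_self, ← act_self (G (q.coeff i)),
          diag_act 𝒜 𝒜 ℬ ℬ _ ((mem_range_iff 𝒜 ℬ hdeg).1 ⟨_, rfl⟩)]
    rw [hψw, ← diag_act 𝒜 ℳ ℬ 𝒩 w ((mem_range_iff_mod ℳ 𝒩 hP).1 ⟨x, rfl⟩), ← actHom_apply,
      show actHom k R M S N w = 0 from hwW, LinearMap.zero_apply, map_zero]
  · -- no further relations
    intro i m hm n hn hdm hdn c hc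
    let θ : MvPolynomial (Fin r × Fin s) k →ₐ[k] MvPolynomial (Fin r) k ⊗[k] MvPolynomial (Fin s) k :=
      MvPolynomial.aeval fun q => MvPolynomial.X q.1 ⊗ₜ[k] MvPolynomial.X q.2
    have hθ : θ c = 0 := by
      have he : MvPolynomial.aeval (fun q : Fin r × Fin s => p q.1 q.2) c ∈ Module.annihilator T P := by
        rw [← Ideal.Quotient.eq_zero_iff_mem, ← Ideal.Quotient.mkₐ_eq_mk k]
        refine Eq.trans ?_ hc
        exact (MvPolynomial.comp_aeval_apply _ _ _)
      obtain ⟨x, hx⟩ := (mem_range_iff_mod ℳ 𝒩 hP).2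
        (Submodule.mem_iSup_of_mem i (Submodule.subset_span ⟨m, hm, n, hn, rfl⟩) :
          m ⊗ₜ[k] n ∈ ⨆ n, GrSeg.segrePiece k ℳ 𝒩 n)
      have h1 := congrArg φ (Module.mem_annihilator.1 he x)
      rw [hP.map_smul, hx, map_zero] at h1
      have hΦ : ψ (MvPolynomial.aeval (fun q : Fin r × Fin s => p q.1 q.2) c) =
          Algebra.TensorProduct.map (MvPolynomial.aeval f) (MvPolynomial.aeval g) (θ c) := by
        rw [← AlgHom.comp_apply, ← AlgHom.comp_apply]
        congr 1
        refine MvPolynomial.algHom_ext fun q => ?_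
        simp [θ, hp]
      rw [hΦ] at h1
      let αM := (LinearMap.toSpanSingleton R M m).restrictScalars k ∘ₗ (MvPolynomial.aeval f).toLinearMap
      let αN := (LinearMap.toSpanSingleton S N n).restrictScalars k ∘ₗ (MvPolynomial.aeval g).toLinearMap
      have hαM : Function.Injective αM := (injective_iff_map_eq_zero αM).2 fun z hz =>
        eq_zero_of_aeval_smul f hffin.to_isIntegral m hdm hz
      have hαN : Function.Injective αN := (injective_iff_map_eq_zero αN).2 fun z hz =>
        eq_zero_of_aeval_smul g hgfin.to_isIntegral n hdn hz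
      refine (injective_iff_map_eq_zero _).1 (TensorProduct.map_injective_of_flat_flat αM αN hαM hαN) _ ?_
      rw [← h1]
      generalize θ c = z
      induction z using TensorProduct.induction_on with
      | zero => simp
      | add a b ha hb => simp only [map_add, LinearMap.add_apply, ha, hb]
      | tmul a b => rw [TensorProduct.map_tmul, Algebra.TensorProduct.map_tmul, GrSeg.act_tmul]; rfl
    let L : MvPolynomial (Fin r) k ⊗[k] MvPolynomial (Fin s) k →ₐ[k] MvPolynomial (Fin r ⊕ Fin s) k :=
      Algebra.TensorProduct.lift (MvPolynomial.rename Sum.inl) (MvPolynomial.rename Sum.inr) fun _ _ => Commute.all _ _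
    have hL : L.comp θ = MvPolynomial.aeval (fun q : Fin r × Fin s =>
        (MvPolynomial.X (Sum.inl q.1) * MvPolynomial.X (Sum.inr q.2) : MvPolynomial (Fin r ⊕ Fin s) k)) := by
      refine MvPolynomial.algHom_ext fun q => ?_
      simp [L, θ]
    rw [← hL, AlgHom.comp_apply, hθ, map_zero]

variable (hposR : ∀ n : ℤ, n < 0 → 𝒜 n = ⊥) (h0R : 𝒜 0 = Submodule.span k {(1 : R)})
  (hposS : ∀ n : ℤ, n < 0 → ℬ n = ⊥) (h0S : ℬ 0 = Submodule.span k {(1 : S)})
  (hψ : Function.Injective ψ) (hdeg : ∀ n : ℤ, (𝒯 n).map ψ.toLinearMap = GrSeg.segrePiece k 𝒜 ℬ n)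
  (hP : GrSeg.IsSegreMod ψ ℳ 𝒩 𝒬 φ) (r s : ℕ)
  (hdM : Module.supportDim R M = r) (hdN : Module.supportDim S N = s)

include hposR h0R hposS h0S hψ hdeg hP hdM hdN in
/-- The dimension of a Segre product of modules, given one pair of elements of maximal dimension in a
common degree. -/
theorem supportDim_segre (hr : 1 ≤ r) (hs : 1 ≤ s) {i : ℤ} {m : M} (hm : m ∈ ℳ i) {n : N} (hn : n ∈ 𝒩 i)
    (hdm : ringKrullDim (R ⧸ annElt R m) = r) (hdn : ringKrullDim (S ⧸ annElt S n) = s) :
    Module.supportDim T P = ((r + s - 1 : ℕ) : WithBot ℕ∞) := by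
  haveI : IsNoetherianRing (R ⊗[k] S) := by
    haveI : Algebra.FiniteType R (R ⊗[k] S) := inferInstance
    haveI : Algebra.FiniteType k (R ⊗[k] S) :=
      Algebra.FiniteType.trans (A := R ⊗[k] S) (S := R) inferInstance inferInstance
    exact Algebra.FiniteType.isNoetherianRing k _
  haveI := moduleFinite_segre 𝒜 ℳ ℬ 𝒩 hdeg hP
  rw [Module.supportDim_eq_ringKrullDim_quotient_annihilator]
  obtain ⟨p, hrel, hint, hfree⟩ := exists_params 𝒜 ℳ ℬ 𝒩 hposR h0R hposS h0S hψ hdeg hP r s hdM hdN
  exact ringKrullDim_eq_of_rankOne p hrel hr hs hint (hfree i m hm n hn hdm hdn)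

end Groth.Agent.H4Segre
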