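import Groth.Agent.H29Curve.Trdeg
import Mathlib.RingTheory.KrullDimension.Polynomial
import Mathlib.RingTheory.MvPolynomial.Basic

/-!
# Krull dimension of algebras integral over rank-one matrices of generators

If a `k`-algebra `T` is integral over the subalgebra generated by elements `p i j` (`i < r`, `j < s`)
satisfying the relations of the Segre embedding, then `dim T ≤ r + s - 1`, with equality if every
relation among the `p i j` holds among the products `x_i y_j`.
-/

set_option autoImplicit false
set_option linter.unusedSectionVars false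
set_option linter.style.haveILetI false

universe u

open Polynomial

namespace Groth.Agent.H4Segre

variable {k : Type u} [Field k] {T : Type u} [CommRing T] [Algebra k T] {r s : ℕ}

/-- The antidiagonal sums. -/
def hsum (p : Fin r → Fin s → T) (m : Fin (r + s - 1)) : T :=
  ∑ i : Fin r, ∑ j : Fin s, if (i : ℕ) + (j : ℕ) = (m : ℕ) then p i j else 0

theorem coeff_mem_pow_of_mem_adjoin (P : Submodule k T) {S : Set T[X]}
    (hS : ∀ q ∈ S, ∃ x ∈ P, q = Polynomial.C x * X) {a : T[X]} (ha : a ∈ Algebra.adjoin k S) :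
    ∀ n, a.coeff n ∈ P ^ n := by
  induction ha using Algebra.adjoin_induction with
  | mem q hq =>
    obtain ⟨x, hx, rfl⟩ := hS q hq
    intro n
    rw [coeff_C_mul_X]
    split_ifs with h
    · subst h; rwa [pow_one]
    · exact zero_mem _
  | algebraMap c =>
    intro n
    rw [Polynomial.algebraMap_apply, coeff_C]
    split_ifs with h
    · subst h; rw [pow_zero]; exact Submodule.mem_one.2 ⟨c, rfl⟩
    · exact zero_mem _
  | add a b _ _ ha hb => intro n; rw [coeff_add]; exact add_mem (ha n) (hb n)
  | mul a b _ _ ha hb =>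
    intro n
    rw [coeff_mul]
    refine sum_mem fun e he => ?_
    rw [← Finset.HasAntidiagonal.mem_antidiagonal.1 he, pow_add]
    exact Submodule.mul_mem_mul (ha _) (hb _)

variable (p : Fin r → Fin s → T) (rel : ∀ i j i' j', p i j * p i' j' = p i j' * p i' j)

include rel in
theorem exists_pow_le_hsum : ∃ N : ℕ,
    Submodule.span k (Set.range fun q : Fin r × Fin s => p q.1 q.2) ^ (N + 1) ≤
      Submodule.span k (Set.range (hsum p)) *
        Submodule.span k (Set.range fun q : Fin r × Fin s => p q.1 q.2) ^ N := by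
  set P := Submodule.span k (Set.range fun q : Fin r × Fin s => p q.1 q.2) with hP
  set H := Submodule.span k (Set.range (hsum p)) with hH
  let A := Algebra.adjoin k (Set.range fun q : Fin r × Fin s => Polynomial.C (p q.1 q.2) * X)
  let Q : Fin r → Fin s → A := fun i j =>
    ⟨Polynomial.C (p i j) * X, Algebra.subset_adjoin ⟨(i, j), rfl⟩⟩
  have hQ : ∀ i j i' j', Q i j * Q i' j' = Q i j' * Q i' j := fun i j i' j' => Subtype.ext (by
    show Polynomial.C (p i j) * X * (Polynomial.C (p i' j') * X) = _
    show _ = Polynomial.C (p i j') * X * (Polynomial.C (p i' j) * X)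
    rw [mul_mul_mul_comm, ← map_mul, rel, map_mul, mul_mul_mul_comm])
  let I : Ideal A := Ideal.span (Set.range (hsum Q))
  have hrad : ∀ m : ℕ, ∀ (i : Fin r) (j : Fin s), (i : ℕ) + (j : ℕ) = m → Q i j ∈ I.radical := by
    intro m
    induction m using Nat.strong_induction_on with
    | _ m ih =>
      intro i j hij
      have hm : m < r + s - 1 := by have := i.2; have := j.2; omega
      have h2 : Q i j * Q i j = Q i j * hsum Q ⟨m, hm⟩ -
          ∑ a : Fin r, ∑ b : Fin s, if (a, b) = (i, j) then 0 else
            (if (a : ℕ) + (b : ℕ) = m then Q i j * Q a b else 0) := by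
        rw [eq_sub_iff_add_eq, hsum]
        simp only [Finset.mul_sum, mul_ite, mul_zero]
        have e : Q i j * Q i j = ∑ a : Fin r, ∑ b : Fin s, if (a, b) = (i, j) then Q i j * Q a b else 0 := by
          simp [Prod.mk.injEq, ite_and]
        rw [e, ← Finset.sum_add_distrib]
        refine Finset.sum_congr rfl fun a _ => ?_
        rw [← Finset.sum_add_distrib]
        refine Finset.sum_congr rfl fun b _ => ?_
        by_cases hab : (a, b) = (i, j)
        · obtain ⟨rfl, rfl⟩ := Prod.mk.injEq .. ▸ hab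
          simp [hij]
        · simp [hab]
      refine (Ideal.radical_idem I).le ⟨2, ?_⟩
      rw [sq, h2]
      refine sub_mem (Ideal.mul_mem_left _ _ (Ideal.le_radical (Ideal.subset_span ⟨_, rfl⟩))) ?_
      refine sum_mem fun a _ => sum_mem fun b _ => ?_
      split_ifs with hab hm'
      · exact zero_mem _
      · rw [hQ]
        rcases lt_trichotomy (a : ℕ) (i : ℕ) with h | h | h
        · exact Ideal.mul_mem_left _ _ (ih _ (by omega) a j rfl)
        · exact absurd (Prod.ext (Fin.ext h) (Fin.ext (show (b : ℕ) = (j : ℕ) by omega))) hab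
        · exact Ideal.mul_mem_right _ _ (ih _ (by omega) i b rfl)
      · exact zero_mem _
  obtain ⟨N, hN⟩ := Ideal.exists_pow_le_of_le_radical_of_fg
    (I := Ideal.span (Set.range fun q : Fin r × Fin s => Q q.1 q.2)) (J := I)
    (Ideal.span_le.2 (by rintro _ ⟨q, rfl⟩; exact hrad _ _ _ rfl))
    (Submodule.fg_span (Set.finite_range _))
  refine ⟨N, fun x hx => ?_⟩
  set J : Ideal A := Ideal.span (Set.range fun q : Fin r × Fin s => Q q.1 q.2)
  have hlift : ∀ (n : ℕ), ∀ x ∈ P ^ n, ∃ a ∈ J ^ n, (a : T[X]) = Polynomial.monomial n x := by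
    intro n x hx
    induction hx using Submodule.pow_induction_on_left' with
    | algebraMap c => exact ⟨algebraMap k A c, by simp, by simp [Polynomial.algebraMap_apply]⟩
    | add x y n _ _ hx hy =>
      obtain ⟨a, ha, ea⟩ := hx
      obtain ⟨b, hb, eb⟩ := hy
      exact ⟨a + b, add_mem ha hb, by rw [map_add, ← ea, ← eb]; rfl⟩
    | mem_mul z hz n y _ ih =>
      obtain ⟨a, ha, ea⟩ := ih
      obtain ⟨b, hb, eb⟩ : ∃ b ∈ J, (b : T[X]) = Polynomial.monomial 1 z := by
        induction hz using Submodule.span_induction with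
        | mem z hz =>
          obtain ⟨q, rfl⟩ := hz
          exact ⟨Q q.1 q.2, Ideal.subset_span ⟨q, rfl⟩, Polynomial.C_mul_X_eq_monomial⟩
        | zero => exact ⟨0, zero_mem _, by simp⟩
        | add a b _ _ ha hb =>
          obtain ⟨a', ha', ea⟩ := ha
          obtain ⟨b', hb', eb⟩ := hb
          exact ⟨a' + b', add_mem ha' hb', by rw [map_add, ← ea, ← eb]; rfl⟩
        | smul c a _ ha =>
          obtain ⟨a', ha', ea⟩ := ha
          exact ⟨algebraMap k A c * a', Ideal.mul_mem_left _ _ ha', by
            rw [← Algebra.smul_def, SetLike.val_smul, ea, Polynomial.smul_monomial]⟩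
      refine ⟨b * a, by rw [Nat.succ_eq_add_one, pow_succ']; exact Ideal.mul_mem_mul hb ha, ?_⟩
      show (b : T[X]) * (a : T[X]) = _
      rw [ea, eb, Polynomial.monomial_mul_monomial, Nat.succ_eq_add_one, add_comm 1 n]
  obtain ⟨a, ha, hax⟩ := hlift _ x hx
  have hJI : a ∈ I := hN (Ideal.pow_le_pow_right (Nat.le_succ N) ha)
  obtain ⟨c, hc⟩ := (Submodule.mem_span_range_iff_exists_fun _).1 hJI
  have hcoef := congrArg (fun f : A => (f : T[X]).coeff (N + 1)) hc
  simp only [hax, Polynomial.coeff_monomial_same, AddSubmonoidClass.coe_finsetSum,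
    Polynomial.finsetSum_coeff] at hcoef
  rw [← hcoef]
  refine sum_mem fun m _ => ?_
  have e : ((hsum Q m : A) : T[X]) = Polynomial.C (hsum p m) * X := by
    simp only [hsum, AddSubmonoidClass.coe_finsetSum, map_sum, Finset.sum_mul]
    refine Finset.sum_congr rfl fun i _ => Finset.sum_congr rfl fun j _ => ?_
    split_ifs with h
    · rfl
    · simp
  show ((c m : T[X]) * ((hsum Q m : A) : T[X])).coeff (N + 1) ∈ _
  rw [e, ← mul_assoc, Polynomial.coeff_mul_X, Polynomial.coeff_mul_C, mul_comm ((c m : T[X]).coeff N)]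
  exact Submodule.mul_mem_mul (Submodule.subset_span ⟨m, rfl⟩)
    (coeff_mem_pow_of_mem_adjoin P (by
      rintro _ ⟨q, rfl⟩; exact ⟨_, Submodule.subset_span ⟨q, rfl⟩, rfl⟩) (c m).2 N)

include rel in
/-- The upper bound for the dimension. -/
theorem ringKrullDim_le_of_rankOne
    (hint : ∀ t : T, IsIntegral (Algebra.adjoin k (Set.range fun q : Fin r × Fin s => p q.1 q.2)) t) :
    ringKrullDim T ≤ ((r + s - 1 : ℕ) : WithBot ℕ∞) := by
  obtain ⟨N, hN⟩ := exists_pow_le_hsum (k := k) p rel
  let g : MvPolynomial (Fin (r + s - 1)) k →ₐ[k] T := MvPolynomial.aeval (hsum p)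
  set P := Submodule.span k (Set.range fun q : Fin r × Fin s => p q.1 q.2) with hP
  letI : Algebra (MvPolynomial (Fin (r + s - 1)) k) T := g.toRingHom.toAlgebra
  haveI : IsScalarTower k (MvPolynomial (Fin (r + s - 1)) k) T :=
    IsScalarTower.of_algebraMap_eq fun c => (g.commutes c).symm
  let C : Submodule (MvPolynomial (Fin (r + s - 1)) k) T :=
    Submodule.span (MvPolynomial (Fin (r + s - 1)) k) (⋃ n : Fin (N + 1), ((P ^ (n : ℕ) : Submodule k T) : Set T))
  have hPn : ∀ n, P ^ n ≤ C.restrictScalars k := by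
    intro n
    induction n using Nat.strong_induction_on with
    | _ n ih =>
      intro x hx
      rcases Nat.lt_or_ge n (N + 1) with h | h
      · exact Submodule.subset_span (Set.mem_iUnion.2 ⟨⟨n, h⟩, hx⟩)
      · obtain ⟨e, rfl⟩ := Nat.exists_eq_add_of_le h
        have hle : P ^ (N + 1 + e) ≤ Submodule.span k (Set.range (hsum p)) * P ^ (N + e) := by
          calc P ^ (N + 1 + e) = P ^ (N + 1) * P ^ e := pow_add _ _ _
            _ ≤ Submodule.span k (Set.range (hsum p)) * P ^ N * P ^ e := mul_le_mul' hN le_rfl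
            _ = _ := by rw [mul_assoc, ← pow_add]
        have hx' := hle hx
        refine (Submodule.mul_le.2 (fun a ha b hb => ?_) : _ ≤ C.restrictScalars k) hx'
        have hb' : b ∈ C := ih (N + e) (by omega) hb
        obtain ⟨w, rfl⟩ : ∃ w, g w = a := by
          induction ha using Submodule.span_induction with
          | mem z hz => obtain ⟨m, rfl⟩ := hz; exact ⟨MvPolynomial.X m, MvPolynomial.aeval_X _ _⟩
          | zero => exact ⟨0, map_zero g⟩
          | add a b _ _ ha hb => obtain ⟨u, rfl⟩ := ha; obtain ⟨v, rfl⟩ := hb; exact ⟨u + v, map_add g u v⟩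
          | smul c a _ ha => obtain ⟨u, rfl⟩ := ha; exact ⟨c • u, map_smul g c u⟩
        exact C.smul_mem w hb'
  set A := Algebra.adjoin k (Set.range fun q : Fin r × Fin s => p q.1 q.2) with hA
  let A' : Subalgebra (MvPolynomial (Fin (r + s - 1)) k) T :=
    Algebra.adjoin _ (Set.range fun q : Fin r × Fin s => p q.1 q.2)
  have hA' : A'.toSubmodule = C := by
    refine le_antisymm ?_ ?_
    · rw [Algebra.adjoin_eq_span, Submodule.span_le]
      intro x hx
      suffices ∃ n, x ∈ P ^ n by obtain ⟨n, hn⟩ := this; exact hPn n hn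
      induction hx using Submonoid.closure_induction with
      | mem z hz => exact ⟨1, by rw [pow_one]; exact Submodule.subset_span hz⟩
      | one => exact ⟨0, by rw [pow_zero]; exact Submodule.one_le.1 le_rfl⟩
      | mul a b _ _ ha hb =>
        obtain ⟨m, hm⟩ := ha
        obtain ⟨n, hn⟩ := hb
        exact ⟨m + n, by rw [pow_add]; exact Submodule.mul_mem_mul hm hn⟩
    · refine Submodule.span_le.2 fun x hx => ?_
      obtain ⟨n, hn⟩ := Set.mem_iUnion.1 hx
      have hle : P ^ (n : ℕ) ≤ A'.toSubmodule.restrictScalars k := by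
        have hP1 : P ≤ (A'.restrictScalars k).toSubmodule :=
          Submodule.span_le.2 fun z hz => Algebra.subset_adjoin hz
        generalize (n : ℕ) = n'
        intro z hz
        induction hz using Submodule.pow_induction_on_left' with
        | algebraMap c => exact (A'.restrictScalars k).algebraMap_mem c
        | add a b i _ _ ha hb => exact add_mem ha hb
        | mem_mul z hz i y _ ih => exact (A'.restrictScalars k).mul_mem (hP1 hz) ih
      exact hle hn
  have hfg : A'.toSubmodule.FG := by
    classical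
    rw [hA']
    have hPfg : ∀ n : ℕ, (P ^ n).FG := fun n => (Submodule.fg_span (Set.finite_range _)).pow n
    choose G hG using fun n : Fin (N + 1) => hPfg n
    refine ⟨Finset.univ.biUnion G, le_antisymm ?_ ?_⟩
    · refine Submodule.span_mono ?_
      intro z hz
      simp only [Finset.coe_biUnion, Set.mem_iUnion, Finset.mem_coe] at hz ⊢
      obtain ⟨n, -, hn⟩ := hz
      exact ⟨n, hG n ▸ Submodule.subset_span hn⟩
    · refine Submodule.span_le.2 fun z hz => ?_
      obtain ⟨n, hn⟩ := Set.mem_iUnion.1 hz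
      rw [SetLike.mem_coe, ← hG n] at hn
      exact Submodule.span_le_restrictScalars k _ _ (Submodule.span_mono (by
        intro w hw; simp only [Finset.coe_biUnion, Set.mem_iUnion, Finset.mem_coe]
        exact ⟨n, Finset.mem_univ n, hw⟩) hn)
  haveI : Algebra.IsIntegral (MvPolynomial (Fin (r + s - 1)) k) T := by
    refine ⟨fun t => ?_⟩
    have hAA : ∀ a ∈ A, IsIntegral (MvPolynomial (Fin (r + s - 1)) k) a := fun a ha =>
      IsIntegral.of_mem_of_fg A' hfg a ((Algebra.adjoin_le (S := A'.restrictScalars k)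
        Algebra.subset_adjoin) ha)
    obtain ⟨q, hq, hqt⟩ := hint t
    let D := integralClosure (MvPolynomial (Fin (r + s - 1)) k) T
    refine isIntegral_trans (A := D) t ⟨q.map ((A.val.toRingHom).codRestrict D.toSubsemiring
      (fun a => hAA a.1 a.2)), hq.map _, ?_⟩
    rw [Polynomial.eval₂_map]
    exact hqt
  refine (Order.krullDim_le_of_strictMono (PrimeSpectrum.comap (algebraMap (MvPolynomial (Fin (r + s - 1)) k) T))
    (fun _ _ hlt => Ideal.IsIntegral.comap_lt_comap hlt)).trans ?_
  show ringKrullDim (MvPolynomial (Fin (r + s - 1)) k) ≤ _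
  rw [MvPolynomial.ringKrullDim_of_isNoetherianRing, ringKrullDim_eq_zero_of_field, zero_add, Nat.card_fin]

section Lower

variable (k r s)

/-- `z_{ij} ↦ x_i y_j`, keeping only `i < a`, `j < b`. -/
noncomputable def cutHom (a b : ℕ) : MvPolynomial (Fin r × Fin s) k →ₐ[k] MvPolynomial (Fin r ⊕ Fin s) k :=
  MvPolynomial.aeval fun q => if (q.1 : ℕ) < a ∧ (q.2 : ℕ) < b then
    MvPolynomial.X (Sum.inl q.1) * MvPolynomial.X (Sum.inr q.2) else 0

variable {k r s}

theorem ker_cutHom_le {a b a' b' : ℕ} (ha : a ≤ a') (hb : b ≤ b') :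
    RingHom.ker (cutHom k r s a' b') ≤ RingHom.ker (cutHom k r s a b) := by
  let π : MvPolynomial (Fin r ⊕ Fin s) k →ₐ[k] MvPolynomial (Fin r ⊕ Fin s) k :=
    MvPolynomial.aeval fun v => Sum.elim (fun i : Fin r => if (i : ℕ) < a then MvPolynomial.X v else 0)
      (fun j : Fin s => if (j : ℕ) < b then MvPolynomial.X v else 0) v
  have h : cutHom k r s a b = π.comp (cutHom k r s a' b') := by
    refine MvPolynomial.algHom_ext fun q => ?_
    simp only [AlgHom.comp_apply, cutHom, MvPolynomial.aeval_X]
    by_cases h1 : (q.1 : ℕ) < a' ∧ (q.2 : ℕ) < b'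
    · rw [if_pos h1, map_mul]
      simp only [π, MvPolynomial.aeval_X, Sum.elim_inl, Sum.elim_inr]
      split_ifs <;> simp_all
    · rw [if_neg h1, map_zero, if_neg]
      omega
  intro x hx
  rw [RingHom.mem_ker] at hx ⊢
  rw [h, AlgHom.comp_apply, hx, map_zero]

theorem ker_cutHom_lt {a b a' b' : ℕ} (ha : a ≤ a') (hb : b ≤ b') (i : Fin r) (j : Fin s)
    (hi : (i : ℕ) < a') (hj : (j : ℕ) < b') (h : a ≤ (i : ℕ) ∨ b ≤ (j : ℕ)) :
    RingHom.ker (cutHom k r s a' b') < RingHom.ker (cutHom k r s a b) := by
  refine lt_of_le_of_ne (ker_cutHom_le ha hb) fun e => ?_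
  have h1 : MvPolynomial.X (i, j) ∈ RingHom.ker (cutHom k r s a b) := by
    rw [RingHom.mem_ker, cutHom, MvPolynomial.aeval_X, if_neg]
    rintro ⟨h1, h2⟩
    simp only at h1 h2
    omega
  rw [← e, RingHom.mem_ker, cutHom, MvPolynomial.aeval_X, if_pos ⟨hi, hj⟩] at h1
  simp at h1

include rel in
/-- The dimension is `r + s - 1`, when the only relations are those of the products `x_i y_j`. -/
theorem ringKrullDim_eq_of_rankOne (hr : 1 ≤ r) (hs : 1 ≤ s)
    (hint : ∀ t : T, IsIntegral (Algebra.adjoin k (Set.range fun q : Fin r × Fin s => p q.1 q.2)) t)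
    (hrel : ∀ c : MvPolynomial (Fin r × Fin s) k,
      MvPolynomial.aeval (fun q : Fin r × Fin s => p q.1 q.2) c = 0 →
        MvPolynomial.aeval (fun q : Fin r × Fin s =>
          (MvPolynomial.X (Sum.inl q.1) * MvPolynomial.X (Sum.inr q.2) : MvPolynomial (Fin r ⊕ Fin s) k)) c = 0) :
    ringKrullDim T = ((r + s - 1 : ℕ) : WithBot ℕ∞) := by
  refine le_antisymm (ringKrullDim_le_of_rankOne p rel hint) ?_
  let f : MvPolynomial (Fin r × Fin s) k →ₐ[k] T := MvPolynomial.aeval fun q => p q.1 q.2
  let A := f.range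
  have hAint : (A.val.toRingHom).IsIntegral := fun t => by
    have e : Algebra.adjoin k (Set.range fun q : Fin r × Fin s => p q.1 q.2) = A :=
      Algebra.adjoin_range_eq_range_aeval k _
    have h := hint t
    rw [e] at h
    exact h
  refine le_trans ?_ (H29Curve.ringKrullDim_le_of_isIntegral A.val.toRingHom hAint Subtype.val_injective)
  rw [← ringKrullDim_eq_of_ringEquiv
    (Ideal.quotientKerAlgEquivOfSurjective f.rangeRestrict_surjective).toRingEquiv, AlgHom.ker_rangeRestrict,
    ringKrullDim_quotient]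
  let ab : ℕ → ℕ × ℕ := fun n =>
    if n < s then (r, s - n) else if n < r + s - 1 then (r + s - 1 - n, 1) else (0, 0)
  have hfull : RingHom.ker f ≤ RingHom.ker (cutHom k r s r s) := fun c hc => by
    rw [RingHom.mem_ker] at hc ⊢
    refine (congrArg (fun φ => MvPolynomial.aeval φ c) (funext fun q => ?_)).trans (hrel c hc)
    rw [if_pos ⟨q.1.2, q.2.2⟩]
  have hab : ∀ n, (ab n).1 ≤ r ∧ (ab n).2 ≤ s := fun n => by
    simp only [ab]
    split_ifs <;> constructor <;> simp only <;> omega
  let F : Fin (r + s - 1 + 1) → PrimeSpectrum.zeroLocus (RingHom.ker f : Set (MvPolynomial (Fin r × Fin s) k)) :=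
    fun n => ⟨⟨RingHom.ker (cutHom k r s (ab n).1 (ab n).2), RingHom.ker_isPrime _⟩,
      hfull.trans (ker_cutHom_le (hab n).1 (hab n).2)⟩
  have hF : StrictMono F := Fin.strictMono_iff_lt_succ.2 fun n => by
    have hn := n.2
    show RingHom.ker (cutHom k r s (ab n).1 (ab n).2) <
      RingHom.ker (cutHom k r s (ab (n + 1 : ℕ)).1 (ab (n + 1 : ℕ)).2)
    simp only [ab]
    by_cases h1 : (n : ℕ) + 1 < s
    · rw [if_pos (by omega), if_pos h1]
      exact ker_cutHom_lt le_rfl (by omega) ⟨r - 1, by omega⟩ ⟨s - n - 1, by omega⟩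
        (by simp only; omega) (by simp only; omega) (Or.inr (by simp only; omega))
    · by_cases h2 : (n : ℕ) + 1 < r + s - 1
      · rw [if_neg h1, if_pos h2]
        by_cases h0 : (n : ℕ) < s
        · rw [if_pos h0]
          exact ker_cutHom_lt (by omega) (by omega) ⟨r - 1, by omega⟩ ⟨0, hs⟩
            (by simp only; omega) (by simp only; omega) (Or.inl (by simp only; omega))
        · rw [if_neg h0, if_pos (by omega)]
          exact ker_cutHom_lt (by omega) le_rfl ⟨r + s - 1 - n - 1, by omega⟩ ⟨0, hs⟩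
            (by simp only; omega) (by simp only; omega) (Or.inl (by simp only; omega))
      · rw [if_neg h1, if_neg h2]
        by_cases h0 : (n : ℕ) < s
        · rw [if_pos h0]
          exact ker_cutHom_lt (by omega) (by omega) ⟨0, hr⟩ ⟨0, hs⟩
            (by simp only; omega) (by simp only; omega) (Or.inl (by simp only; omega))
        · rw [if_neg h0, if_pos (by omega)]
          exact ker_cutHom_lt (by omega) (by omega) ⟨0, hr⟩ ⟨0, hs⟩
            (by simp only; omega) (by simp only; omega) (Or.inl (by simp only; omega))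
  exact Order.le_krullDim_iff.2 ⟨LTSeries.mk _ F hF, rfl⟩

end Lower

end Groth.Agent.H4Segre
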